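import Cfsg.Agent.R2.F4M.Quad
import Cfsg.Agent.R2.F4P.Id
import Cfsg.Agent.R2.H8.NoFix.Aut

/-!
# S5931: common eigenvectors of `H` over the quadratic extension (helper21)

* `TE i g` : the action of `g` on `J` over `E`; `sg s` : the semilinear Frobenius map, `ic i` : extension of scalars;
* `Cfg.eigF` : eigenvectors modulo the unit with eigenvalues in `F` are multiples of the unit;
* `Cfg.exists_common` : if `L` fixes a vector which is not a multiple of the unit and `g ^ N ∈ L` for all `g ∈ H`, there is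
  a common eigenvector of `H` over `E` fixed by `L` with an eigenvalue which is not in `F`.
-/

set_option autoImplicit false
set_option linter.unusedSectionVars false

namespace Cfsg.Agent.R2.F4M

open Cfsg Cfsg.Lie Module Matrix
open Cfsg.Agent.ChevalleyStructure.E6Min.Basic
open Cfsg.Agent.H952.F4 Cfsg.Agent.H952.F4.Jord
open Cfsg.Agent.H952.F4.FixV (W0 mem_W0 finrank_W0 u0_ne_zero)
open Cfsg.Agent.R2.H9.E6
open Cfsg.Agent.GpExc.Field (emb)
open Cfsg.Agent.R2.H8.NoFix.Aut (comm_inner)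

universe u v w

section basic

variable {F E : Type u} [Field F] [Field E] (i : F →+* E) (s : E →+* E)

/-- the action over `E` -/
noncomputable def TE (g : ↥(chevF4.group F)) : (I27 → E) →ₗ[E] (I27 → E) := Jr E (emb hF4 i g)

/-- the semilinear map -/
def sg (x : I27 → E) : I27 → E := fun j => s (x j)

/-- extension of scalars -/
def ic (x : I27 → F) : I27 → E := fun j => i (x j)

theorem TE_mul (g h : ↥(chevF4.group F)) (x : I27 → E) : TE i (g * h) x = TE i g (TE i h x) := by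
  unfold TE
  rw [map_mul, Jr_mul]

theorem TE_one (x : I27 → E) : TE i 1 x = x := by
  unfold TE
  rw [map_one, Jr_one]

theorem TE_inv_apply (g : ↥(chevF4.group F)) (x : I27 → E) : TE i g⁻¹ (TE i g x) = x := by
  rw [← TE_mul, inv_mul_cancel, TE_one]

theorem TE_pow (g : ↥(chevF4.group F)) (n : ℕ) : TE i (g ^ n) = TE i g ^ n := by
  unfold TE
  rw [map_pow, map_pow]

theorem TE_u0 (g : ↥(chevF4.group F)) : TE i g (u0 E) = u0 E := Jr_u0 _

theorem TE_sh (g : ↥(chevF4.group F)) (x : I27 → E) : sh (TE i g x) = TE i g (sh x) := Jr_sh _ x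

theorem TE_cr (g : ↥(chevF4.group F)) (x y : I27 → E) : cr (TE i g x) (TE i g y) = TE i g (cr x y) := Jr_cr _ x y

theorem TE_tr (g : ↥(chevF4.group F)) (x : I27 → E) : tr1 (TE i g x) = tr1 x := Jr_tr _ x

theorem TE_tf (g : ↥(chevF4.group F)) (x y : I27 → E) : tf (TE i g x) (TE i g y) = tf x y := Jr_tf _ x y

theorem TE_N (g : ↥(chevF4.group F)) (x : I27 → E) : cubicT (TE i g x) = cubicT x := Jr_N _ x

theorem TE_ic (g : ↥(chevF4.group F)) (x : I27 → F) : TE i g (ic i x) = ic i (Jr F g x) := Jr_map i g x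

theorem sg_add (x y : I27 → E) : sg s (x + y) = sg s x + sg s y := funext fun _ => map_add s _ _

theorem sg_smul (c : E) (x : I27 → E) : sg s (c • x) = s c • sg s x := funext fun _ => map_mul s _ _

theorem sg_sh (x : I27 → E) : sh (sg s x) = sg s (sh x) := H163.E6.Act.sh_map s x

theorem sg_cr (x y : I27 → E) : cr (sg s x) (sg s y) = sg s (cr x y) := by
  have h1 : sg s x + sg s y = sg s (x + y) := (sg_add s x y).symm
  unfold cr
  rw [h1, sg_sh, sg_sh, sg_sh]
  funext j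
  simp [sg]

theorem sg_tr (x : I27 → E) : tr1 (sg s x) = s (tr1 x) := F4P.tr1_map s x

theorem sg_u0 : sg s (u0 E) = u0 E := F4P.u0_map s

theorem ic_add (x y : I27 → F) : ic i (x + y) = ic i x + ic i y := funext fun _ => map_add i _ _

theorem ic_smul (c : F) (x : I27 → F) : ic i (c • x) = i c • ic i x := funext fun _ => map_mul i _ _

theorem ic_u0 : ic i (u0 F) = u0 E := F4P.u0_map i

theorem ic_inj : Function.Injective (ic i) := fun _ _ h => funext fun j => i.injective (congrFun h j)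

end basic

section qd

variable {F E : Type u} [Field F] [Fintype F] [Field E] [Fintype E] {i : F →+* E} {s : E →+* E}

theorem Qd.emb_emb (q : Qd i s) (g : ↥(chevF4.group F)) : emb hF4 s (emb hF4 i g) = emb hF4 i g := by
  apply Subtype.ext
  rw [Cfsg.Agent.GpExc.Field.coe_emb, Cfsg.Agent.GpExc.Field.coe_emb]
  apply Units.ext
  ext j l
  exact q.si _

theorem Qd.sg_T (q : Qd i s) (g : ↥(chevF4.group F)) (x : I27 → E) : sg s (TE i g x) = TE i g (sg s x) := by
  have h := Jr_map s (emb hF4 i g) x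
  rw [q.emb_emb] at h
  exact h.symm

theorem Qd.sg_sg (q : Qd i s) (x : I27 → E) : sg s (sg s x) = x := funext fun _ => q.ss _

theorem Qd.exists_ic (q : Qd i s) {x : I27 → E} (hx : sg s x = x) : ∃ y, ic i y = x := by
  have h : ∀ j, ∃ y, i y = x j := fun j => q.fix (congrFun hx j)
  choose y hy using h
  exact ⟨y, funext hy⟩

/-- the rational vectors `α x + α^q σ x` -/
theorem Qd.exists_rat (q : Qd i s) (x : I27 → E) (α : E) : ∃ y, ic i y = α • x + s α • sg s x := by
  refine q.exists_ic ?_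
  rw [sg_add, sg_smul, sg_smul, q.ss, q.sg_sg, add_comm]

variable {K : Type v} [Field K] [Fintype K] {p a b : ℕ}
variable {H : Subgroup ↥(chevF4.group F)} {φ : ProjectiveSpecialLinearGroup (Fin 2) K →* ↥(chevF4.group F)}

omit [Fintype F] in
theorem li_of_not_mem {w : I27 → F} (hwu : w ∉ Submodule.span F {u0 F}) : LinearIndependent F ![u0 F, w] := by
  rw [LinearIndependent.pair_iff]
  intro s t hst
  have ht : t = 0 := by
    by_contra ht
    apply hwu
    refine Submodule.mem_span_singleton.2 ⟨-(t⁻¹ * s), ?_⟩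
    have h3 : t • w = -(s • u0 F) := by
      rw [eq_neg_iff_add_eq_zero, add_comm]
      exact hst
    have h4 : w = t⁻¹ • (t • w) := by rw [smul_smul, inv_mul_cancel₀ ht, one_smul]
    rw [h4, h3, smul_neg, smul_smul, neg_smul]
  rw [ht, zero_smul, add_zero] at hst
  exact ⟨(smul_eq_zero.1 hst).resolve_right u0_ne_zero, ht⟩

/-- **FV** modulo the unit -/
theorem Cfg.fv_mod (h : Cfg p a b H φ) {w : I27 → F} (hw : ∀ g ∈ H, ∃ c d : F, Jr F g w = c • w + d • u0 F) :
    w ∈ Submodule.span F {u0 F} := by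
  by_contra hwu
  have hli := li_of_not_mem hwu
  refine h.fv (P := Submodule.span F (Set.range ![u0 F, w])) ?_ (Submodule.subset_span ⟨0, rfl⟩)
    (by rw [finrank_span_eq_card hli, Fintype.card_fin])
  intro g hg x hx
  have h3 : Submodule.span F (Set.range ![u0 F, w]) ≤ (Submodule.span F (Set.range ![u0 F, w])).comap (Jr F g) := by
    rw [Submodule.span_le]
    rintro _ ⟨i, rfl⟩
    show Jr F g _ ∈ Submodule.span F (Set.range ![u0 F, w])
    fin_cases i
    · show Jr F g (u0 F) ∈ _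
      rw [Jr_u0]
      exact Submodule.subset_span ⟨0, rfl⟩
    · show Jr F g w ∈ _
      obtain ⟨c, d, hc⟩ := hw g hg
      rw [hc]
      exact Submodule.add_mem _ (Submodule.smul_mem _ _ (Submodule.subset_span ⟨1, rfl⟩))
        (Submodule.smul_mem _ _ (Submodule.subset_span ⟨0, rfl⟩))
  exact h3 hx

/-- **eigenvectors modulo the unit with eigenvalues in `F`** -/
theorem Cfg.eigF (h : Cfg p a b H φ) (q : Qd i s) {x : I27 → E}
    (hx : ∀ g ∈ H, ∃ (c : F) (d : E), TE i g x = i c • x + d • u0 E) : x ∈ Submodule.span E {u0 E} := by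
  have key : ∀ α : E, ∃ t : E, α • x + s α • sg s x = t • u0 E := by
    intro α
    obtain ⟨y, hy⟩ := q.exists_rat x α
    have h1 : y ∈ Submodule.span F {u0 F} := by
      refine h.fv_mod fun g hg => ?_
      obtain ⟨c, d, hcd⟩ := hx g hg
      obtain ⟨e, he⟩ : ∃ e, i e = α * d + s (α * d) := q.fix (by rw [map_add, q.ss, add_comm])
      refine ⟨c, e, ic_inj i ?_⟩
      rw [← TE_ic, hy, map_add, map_smul, map_smul, ← q.sg_T, hcd, sg_add, sg_smul, sg_smul, sg_u0, q.si, ic_add,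
        ic_smul, ic_smul, hy, ic_u0, he, map_mul]
      module
    obtain ⟨t, ht⟩ := Submodule.mem_span_singleton.1 h1
    refine ⟨i t, ?_⟩
    rw [← hy, ← ht, ic_smul, ic_u0]
  obtain ⟨α, hα⟩ := q.exists_ne
  obtain ⟨t1, h1⟩ := key 1
  obtain ⟨t2, h2⟩ := key α
  have h3 : s α - α ≠ 0 := sub_ne_zero.2 hα
  rw [one_smul, map_one, one_smul] at h1
  have h4 : (s α - α) • x = (s α * t1 - t2) • u0 E := by
    have h5 : (s α * t1 - t2) • u0 E = s α • (t1 • u0 E) - t2 • u0 E := by module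
    rw [h5, ← h1, ← h2]
    module
  refine Submodule.mem_span_singleton.2 ⟨(s α - α)⁻¹ * (s α * t1 - t2), ?_⟩
  rw [← smul_smul, ← h4, smul_smul, inv_mul_cancel₀ h3, one_smul]

/-- the commutators of `H` belong to `L` -/
theorem Cfg.comm_mem (h : Cfg p a b H φ) {g g' : ↥(chevF4.group F)} (hg : g ∈ H) (hg' : g' ∈ H) :
    ∃ t, g * g' * g⁻¹ * g'⁻¹ = φ t := by
  obtain ⟨τ, hτ, -, hconj⟩ := h.max.act
  obtain ⟨t, ht⟩ := comm_inner (τ ⟨g, hg⟩) (τ ⟨g', hg'⟩)
  refine ⟨t, ?_⟩
  have h3 : τ (⟨g, hg⟩ * ⟨g', hg'⟩ * ⟨g, hg⟩⁻¹ * ⟨g', hg'⟩⁻¹) = τ ⟨φ t, h.mem t⟩ := by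
    rw [map_mul, map_mul, map_mul, map_inv, map_inv, ht, hconj]
  exact congrArg Subtype.val (hτ h3)

/-- the fixed vectors of `L` over `E` -/
def ME (i : F →+* E) (φ : ProjectiveSpecialLinearGroup (Fin 2) K →* ↥(chevF4.group F)) : Submodule E (I27 → E) where
  carrier := {x | ∀ t, TE i (φ t) x = x}
  add_mem' := by
    intro x y hx hy t
    rw [map_add, hx t, hy t]
  zero_mem' := fun t => map_zero _
  smul_mem' := by
    intro c x hx t
    rw [map_smul, hx t]

theorem mem_ME {x : I27 → E} : x ∈ ME i φ ↔ ∀ t, TE i (φ t) x = x := Iff.rfl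

theorem Cfg.ME_st (h : Cfg p a b H φ) {g : ↥(chevF4.group F)} (hg : g ∈ H) {x : I27 → E} (hx : x ∈ ME i φ) :
    TE i g x ∈ ME i φ := by
  intro t
  obtain ⟨t', ht'⟩ := h.max.norm g⁻¹ (inv_mem hg) (φ t) ⟨t, rfl⟩
  rw [← TE_mul]
  have h1 : φ t * g = g * φ t' := by
    rw [ht']
    group
  rw [h1, TE_mul, hx t']

theorem Cfg.ME_comm (h : Cfg p a b H φ) {g g' : ↥(chevF4.group F)} (hg : g ∈ H) (hg' : g' ∈ H) {x : I27 → E}
    (hx : x ∈ ME i φ) : TE i g (TE i g' x) = TE i g' (TE i g x) := by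
  obtain ⟨t, ht⟩ := h.comm_mem hg hg'
  have h1 : g * g' = φ t * (g' * g) := by
    rw [← ht]
    group
  rw [← TE_mul, h1, TE_mul, TE_mul, h.ME_st hg' (h.ME_st hg hx)]

theorem TE_span (g : ↥(chevF4.group F)) {x : I27 → E} (hx : x ∈ Submodule.span E {u0 E}) :
    TE i g x ∈ Submodule.span E {u0 E} := by
  obtain ⟨c, rfl⟩ := Submodule.mem_span_singleton.1 hx
  rw [map_smul, TE_u0]
  exact Submodule.smul_mem _ _ (Submodule.mem_span_singleton_self _)

/-- the stable subspaces of `ME` containing the unit and something else -/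
structure Sx (i : F →+* E) (H : Subgroup ↥(chevF4.group F)) (φ : ProjectiveSpecialLinearGroup (Fin 2) K →* ↥(chevF4.group F))
    (X : Submodule E (I27 → E)) : Prop where
  le : X ≤ ME i φ
  u : u0 E ∈ X
  ne : ∃ x ∈ X, x ∉ Submodule.span E {u0 E}
  st : ∀ g ∈ H, ∀ x ∈ X, TE i g x ∈ X

/-- eigenvectors modulo the unit -/
theorem Cfg.exists_mod (h : Cfg p a b H φ) (q : Qd i s) (hNb : ∀ g ∈ H, ∃ t, g ^ Nb b = φ t)
    {X : Submodule E (I27 → E)} (hX : Sx i H φ X) {g : ↥(chevF4.group F)} (hg : g ∈ H) :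
    ∃ (c : E) (x : I27 → E), x ∈ X ∧ x ∉ Submodule.span E {u0 E} ∧ TE i g x - c • x ∈ Submodule.span E {u0 E} := by
  have hp : Fact p.Prime := ⟨h.prime⟩
  have := h.charF
  have hE : CharP E p := charP_of_injective_ringHom i.injective p
  let U' : Submodule E ↥X := (Submodule.span E {u0 E}).comap X.subtype
  let T : ↥X →ₗ[E] ↥X := (TE i g).restrict (hX.st g hg)
  have hT : ∀ x, ((T x : ↥X) : I27 → E) = TE i g x := fun x => rfl
  have hTn : ∀ (n : ℕ) (x : ↥X), (((T ^ n) x : ↥X) : I27 → E) = TE i (g ^ n) x := by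
    intro n
    induction n with
    | zero => intro x; rw [pow_zero, pow_zero, TE_one]; rfl
    | succ n ih =>
      intro x
      rw [pow_succ, Module.End.mul_apply, ih, hT, pow_succ, TE_mul]
  have hU' : U' ≤ U'.comap T := by
    intro x hx
    exact TE_span g hx
  let Q : Module.End E (↥X ⧸ U') := Submodule.mapQ U' U' T hU'
  have hQ : ∀ x, Q (U'.mkQ x) = U'.mkQ (T x) := fun x => rfl
  have hQn : ∀ (n : ℕ) (x : ↥X), (Q ^ n) (U'.mkQ x) = U'.mkQ ((T ^ n) x) := by
    intro n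
    induction n with
    | zero => intro x; rfl
    | succ n ih =>
      intro x
      rw [pow_succ, Module.End.mul_apply, hQ, ih, pow_succ, Module.End.mul_apply]
  have hQN : Q ^ Nb b = 1 := by
    refine LinearMap.ext fun y => ?_
    obtain ⟨x, rfl⟩ := Submodule.mkQ_surjective _ y
    rw [hQn, Module.End.one_apply]
    congr 1
    apply Subtype.ext
    obtain ⟨t, ht⟩ := hNb g hg
    rw [hTn, ht]
    exact hX.le x.2 t
  obtain ⟨x0, hx0, hx0u⟩ := hX.ne
  have hnt : Nontrivial (↥X ⧸ U') := by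
    refine ⟨U'.mkQ ⟨x0, hx0⟩, 0, fun h0 => hx0u ?_⟩
    have h1 := (Submodule.Quotient.mk_eq_zero _).1 h0
    exact h1
  have hdvd : Nb b ∣ p ^ 3 * (Fintype.card E - 1) := by
    rw [q.card, h.cardF, ← pow_mul, mul_comm b 2]
    exact Nb_dvd h.prime h.hb
  obtain ⟨c, y, hy0, hy⟩ := exists_eig (p := p) (m := 3) hQN hdvd
  obtain ⟨x, rfl⟩ := Submodule.mkQ_surjective _ y
  refine ⟨c, x, x.2, fun hx => hy0 ?_, ?_⟩
  · exact (Submodule.Quotient.mk_eq_zero _).2 hx
  · have h1 : U'.mkQ (T x - c • x) = 0 := by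
      rw [map_sub, map_smul, ← hQ, hy, sub_self]
    have h2 : T x - c • x ∈ U' := (Submodule.Quotient.mk_eq_zero _).1 h1
    exact h2

/-- **common eigenvectors** -/
theorem Cfg.exists_common (h : Cfg p a b H φ) (q : Qd i s) (hNb : ∀ g ∈ H, ∃ t, g ^ Nb b = φ t)
    (hM : ∃ y : I27 → F, (∀ t, Jr F (φ t) y = y) ∧ y ∉ Submodule.span F {u0 F}) :
    ∃ (w : I27 → E) (χ : ↥(chevF4.group F) → E), w ∉ Submodule.span E {u0 E} ∧ (∀ g ∈ H, TE i g w = χ g • w) ∧
      (∀ t, TE i (φ t) w = w) ∧ ∃ g0 ∈ H, s (χ g0) ≠ χ g0 := by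
  classical
  obtain ⟨y, hy, hyu⟩ := hM
  have hS : Sx i H φ (ME i φ) := by
    refine ⟨le_rfl, fun t => TE_u0 i _, ⟨ic i y, fun t => ?_, fun hmem => hyu ?_⟩, fun g hg x hx => h.ME_st hg hx⟩
    · rw [TE_ic, hy]
    · obtain ⟨c, hc⟩ := Submodule.mem_span_singleton.1 hmem
      obtain ⟨d, hd⟩ : ∃ d, i d = c := by
        refine ⟨y (0, 0, 0), ?_⟩
        have h1 := congrFun hc (0, 0, 0)
        simp only [Pi.smul_apply, u0, smul_eq_mul, and_self, if_true, mul_one] at h1
        exact h1.symm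
      refine Submodule.mem_span_singleton.2 ⟨d, ic_inj i ?_⟩
      rw [ic_smul, ic_u0, hd, hc]
  have hex : ∃ n, ∃ X : Submodule E (I27 → E), Sx i H φ X ∧ finrank E ↥X = n := ⟨_, _, hS, rfl⟩
  obtain ⟨X, hX, hXn⟩ := Nat.find_spec hex
  have hmin : ∀ X' : Submodule E (I27 → E), Sx i H φ X' → X' ≤ X → X' = X := by
    intro X' hX' hle
    refine Submodule.eq_of_le_of_finrank_le hle ?_
    rw [hXn]
    exact Nat.find_min' hex ⟨X', hX', rfl⟩
  have hsc : ∀ g : ↥(chevF4.group F), ∃ c : E, g ∈ H → ∀ x ∈ X, TE i g x - c • x ∈ Submodule.span E {u0 E} := by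
    intro g
    by_cases hg : g ∈ H
    · obtain ⟨c, x1, hx1, hx1u, hx1c⟩ := h.exists_mod q hNb hX hg
      refine ⟨c, fun _ => ?_⟩
      let X' : Submodule E (I27 → E) := X ⊓ (Submodule.span E {u0 E}).comap (TE i g - c • LinearMap.id)
      have hX' : Sx i H φ X' := by
        refine ⟨inf_le_left.trans hX.le, ⟨hX.u, ?_⟩, ⟨x1, ⟨hx1, hx1c⟩, hx1u⟩, fun g' hg' x hx => ⟨hX.st g' hg' x hx.1, ?_⟩⟩
        · show TE i g (u0 E) - c • u0 E ∈ Submodule.span E {u0 E}
          rw [TE_u0]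
          exact Submodule.sub_mem _ (Submodule.mem_span_singleton_self _)
            (Submodule.smul_mem _ _ (Submodule.mem_span_singleton_self _))
        · show TE i g (TE i g' x) - c • TE i g' x ∈ Submodule.span E {u0 E}
          rw [h.ME_comm hg hg' (hX.le hx.1), ← map_smul, ← map_sub]
          exact TE_span g' hx.2
      have hXX := hmin X' hX' inf_le_left
      intro x hx
      rw [← hXX] at hx
      exact hx.2
    · exact ⟨0, fun hg' => absurd hg' hg⟩
  choose χ hχ using hsc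
  obtain ⟨x, hx, hxu⟩ := hX.ne
  obtain ⟨g0, hg0, hχ0⟩ : ∃ g0 ∈ H, s (χ g0) ≠ χ g0 := by
    by_contra hcon
    push Not at hcon
    apply hxu
    refine h.eigF q fun g hg => ?_
    obtain ⟨c, hc⟩ := q.fix (hcon g hg)
    obtain ⟨d, hd⟩ := Submodule.mem_span_singleton.1 (hχ g hg x hx)
    refine ⟨c, d, ?_⟩
    rw [hc, hd]
    module
  have h1 : (1 : E) - χ g0 ≠ 0 := by
    intro h0
    apply hχ0
    rw [← sub_eq_zero.1 h0, map_one]
  obtain ⟨d, hd⟩ := Submodule.mem_span_singleton.1 (hχ g0 hg0 x hx)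
  have hd' : TE i g0 x = χ g0 • x + d • u0 E := by
    rw [hd]
    module
  set w : I27 → E := x + (-(d / (1 - χ g0))) • u0 E with hw
  have hwX : w ∈ X := X.add_mem hx (X.smul_mem _ hX.u)
  have hwu : w ∉ Submodule.span E {u0 E} := by
    intro hmem
    apply hxu
    have h2 : x = w - (-(d / (1 - χ g0))) • u0 E := by rw [hw]; module
    rw [h2]
    exact Submodule.sub_mem _ hmem (Submodule.smul_mem _ _ (Submodule.mem_span_singleton_self _))
  have hw0 : TE i g0 w = χ g0 • w := by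
    rw [hw, map_add, map_smul, TE_u0, hd', smul_add, smul_smul, add_assoc, ← add_smul]
    congr 2
    field_simp
    ring
  refine ⟨w, χ, hwu, fun g hg => ?_, hX.le hwX, g0, hg0, hχ0⟩
  obtain ⟨e, he⟩ := Submodule.mem_span_singleton.1 (hχ g hg w hwX)
  have he' : TE i g w = χ g • w + e • u0 E := by
    rw [he]
    module
  have h2 := h.ME_comm hg hg0 (hX.le hwX)
  rw [hw0, map_smul, he', map_add, map_smul, map_smul, hw0, TE_u0] at h2
  have h3 : ((1 - χ g0) * e) • u0 E = 0 := by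
    have h4 : χ g0 • (χ g • w + e • u0 E) - (χ g • χ g0 • w + e • u0 E) = 0 := sub_eq_zero.2 h2
    have h5 : χ g0 • (χ g • w + e • u0 E) - (χ g • χ g0 • w + e • u0 E) = -(((1 - χ g0) * e) • u0 E) := by module
    rw [h5] at h4
    exact neg_eq_zero.1 h4
  have h4 : e = 0 := by
    rcases smul_eq_zero.1 h3 with h5 | h5
    · exact (mul_eq_zero.1 h5).resolve_left h1
    · exact absurd h5 u0_ne_zero
  rw [he', h4, zero_smul, add_zero]

end qd

end Cfsg.Agent.R2.F4M
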