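import Cfsg.Agent.R2.F4M.Kc
import Cfsg.Agent.H952.F4.Tab
import Cfsg.Agent.H952.F4.Chg
import Cfsg.Agent.R2.SL2.Bridge
import Cfsg.Agent.R2.SL2.Lists
import Cfsg.Agent.R2.H28.SL2.Fra
import Cfsg.Agent.R2.H28.SL2.SPres

/-!
# S5931: the representation of `SL(2, p^a)` on `J` and `J₀` over an algebraically closed field (helper21)

* `Rk f φ` : `SL(2, K)` on `I27 → k`, `f : F →+* k`; `Rk_sh`, `Rk_cr`, `Rk_tf`, `Rk_tr`, `Rk_u0`, `Rk_N`, `Rk_map`;
* `R0 f φ` : `SL(2, K)` on `J₀` (dimension 26); `Rk_dul`, `R0_dul` (`p ≠ 3`);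
* `Cfg.pat5`, `Cfg.pat3`, `Cfg.pat2` : the composition patterns of `J₀`.
-/

set_option autoImplicit false
set_option linter.unusedSectionVars false

namespace Cfsg.Agent.R2.F4M

open Cfsg Cfsg.Lie Module Matrix
open Cfsg.Agent.ChevalleyStructure.E6Min.Basic
open Cfsg.Agent.H952.F4 Cfsg.Agent.H952.F4.Jord
open Cfsg.Agent.H952.F4.FixV (W0 mem_W0 finrank_W0 u0_ne_zero trL trL_apply trL_ne_zero tr1_sub tf_sub_right)
open Cfsg.Agent.R2.H9.E6
open Cfsg.Agent.GpExc.Field (emb)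
open Cfsg.Agent.R2.H28.SL2 Cfsg.Agent.H943.RepAdd Cfsg.Agent.R2.SL2
open Cfsg.Agent.R2.GEO (tfB tfB_apply)

universe u v

section

variable {F : Type u} [Field F] {k : Type u} [Field k] (f : F →+* k) {K : Type v} [Field K]
variable (φ : ProjectiveSpecialLinearGroup (Fin 2) K →* ↥(chevF4.group F))

/-- `SL(2, K)` on `J` over `k` -/
noncomputable def Rk : Representation k (SpecialLinearGroup (Fin 2) K) (I27 → k) :=
  MonoidHom.comp (Jr k) (((emb hF4 f).comp φ).comp pq)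

theorem Rk_apply (g : SpecialLinearGroup (Fin 2) K) (x : I27 → k) : Rk f φ g x = Jr k (emb hF4 f (φ (pq g))) x := rfl

theorem Rk_u0 (g : SpecialLinearGroup (Fin 2) K) : Rk f φ g (u0 k) = u0 k := Jr_u0 _

theorem Rk_tr (g : SpecialLinearGroup (Fin 2) K) (x : I27 → k) : tr1 (Rk f φ g x) = tr1 x := Jr_tr _ x

theorem Rk_N (g : SpecialLinearGroup (Fin 2) K) (x : I27 → k) : cubicT (Rk f φ g x) = cubicT x := Jr_N _ x

theorem Rk_tf (g : SpecialLinearGroup (Fin 2) K) (x y : I27 → k) : tf (Rk f φ g x) (Rk f φ g y) = tf x y := Jr_tf _ x y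

theorem Rk_sh (g : SpecialLinearGroup (Fin 2) K) (x : I27 → k) : sh (Rk f φ g x) = Rk f φ g (sh x) := Jr_sh _ x

theorem Rk_cr (g : SpecialLinearGroup (Fin 2) K) (x y : I27 → k) : cr (Rk f φ g x) (Rk f φ g y) = Rk f φ g (cr x y) :=
  Jr_cr _ x y

theorem Rk_map (g : SpecialLinearGroup (Fin 2) K) (x : I27 → F) :
    Rk f φ g (fun i => f (x i)) = fun i => f (Jr F (φ (pq g)) x i) := Jr_map f _ x

theorem h_neg_one : Cfsg.Agent.H943.SL2Rel.h (-1 : Kˣ) = -1 := by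
  apply Subtype.ext
  ext i j
  fin_cases i <;> fin_cases j <;> simp [Cfsg.Agent.H943.SL2Rel.h]

theorem pq_h : pq (Cfsg.Agent.H943.SL2Rel.h (-1 : Kˣ)) = 1 := pq_eq_one.2 (Or.inr h_neg_one)

theorem Rk_cen : Rk f φ (Cfsg.Agent.H943.SL2Rel.h (-1)) = 1 := by
  unfold Rk
  rw [MonoidHom.comp_apply, MonoidHom.comp_apply, pq_h, map_one, map_one]

theorem W0_st (g : SpecialLinearGroup (Fin 2) K) : ∀ x ∈ W0 k, Rk f φ g x ∈ W0 k := by
  intro x hx
  rw [mem_W0, Rk_tr]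
  exact (mem_W0 x).1 hx

/-- `SL(2, K)` on `J₀` over `k` -/
noncomputable def R0 : Representation k (SpecialLinearGroup (Fin 2) K) ↥(W0 k) := subRep (Rk f φ) (W0 k) (W0_st f φ)

theorem R0_apply (g : SpecialLinearGroup (Fin 2) K) (x : ↥(W0 k)) : ((R0 f φ g x : ↥(W0 k)) : I27 → k) = Rk f φ g x := rfl

theorem R0_cen : R0 f φ (Cfsg.Agent.H943.SL2Rel.h (-1)) = 1 := by
  refine LinearMap.ext fun x => Subtype.ext ?_
  rw [R0_apply, Rk_cen]
  rfl

/-- self-duality of `J` -/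
theorem Rk_dul : Dul (Rk f φ) (Rk f φ) (tfB k) where
  inv g x y := by rw [tfB_apply, tfB_apply, Rk_tf]
  left x hx := tf_nondeg hx
  right y hy := tf_nondeg fun x => by rw [tf_comm]; exact hy x

/-- the trace form on `J₀` -/
noncomputable def tf0 (k : Type u) [Field k] : ↥(W0 k) →ₗ[k] ↥(W0 k) →ₗ[k] k :=
  (tfB k).compl₁₂ (W0 k).subtype (W0 k).subtype

theorem tf0_apply (x y : ↥(W0 k)) : tf0 k x y = tf (x : I27 → k) y := rfl

theorem tf0_left (h3 : (3 : k) ≠ 0) (x : ↥(W0 k)) (hx : ∀ y, tf0 k x y = 0) : x = 0 := by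
  obtain ⟨v, hv⟩ := x
  refine Subtype.ext (tf_nondeg fun y => ?_)
  rw [mem_W0] at hv
  have h1 : tr1 (y - (tr1 y / 3) • u0 k) = 0 := by
    rw [tr1_sub, tr1_smul, tr1_u0]
    field_simp
    ring
  have h2 : tf v (y - (tr1 y / 3) • u0 k) = 0 := hx ⟨_, (mem_W0 _).2 h1⟩
  rw [tf_sub_right, tf_smul_right, tf_comm v (u0 k), tf_u0, hv, mul_zero, sub_zero] at h2
  exact h2

/-- self-duality of `J₀`, `p ≠ 3` -/
theorem R0_dul (h3 : (3 : k) ≠ 0) : Dul (R0 f φ) (R0 f φ) (tf0 k) where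
  inv g x y := by rw [tf0_apply, tf0_apply, R0_apply, R0_apply, Rk_tf]
  left x hx := tf0_left h3 x hx
  right y hy := tf0_left h3 y fun x => by rw [tf0_apply, tf_comm]; exact hy x

end

section cfg

variable {F : Type u} [Field F] [Fintype F] {K : Type v} [Field K] [Fintype K] {p a b : ℕ}
variable {H : Subgroup ↥(chevF4.group F)} {φ : ProjectiveSpecialLinearGroup (Fin 2) K →* ↥(chevF4.group F)}
variable {k : Type u} [Field k] (f : F →+* k)

theorem g4_sq : (g4 K) * g4 K = -1 := by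
  apply Subtype.ext
  have h1 : ((g4 K * g4 K : SpecialLinearGroup (Fin 2) K) : Matrix (Fin 2) (Fin 2) K) =
      !![0, -1; 1, 0] * !![0, -1; 1, 0] := rfl
  rw [h1, Matrix.mul_fin_two]
  ext i j
  fin_cases i <;> fin_cases j <;> simp

theorem g4_ne : pq (g4 K) ≠ 1 := by
  rw [Ne, pq_eq_one]
  rintro (h | h)
  · have h1 := congrFun (congrFun (congrArg Subtype.val h) 0) 0
    simp [g4] at h1
  · have h1 := congrFun (congrFun (congrArg Subtype.val h) 0) 0
    simp [g4] at h1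

theorem g3_cube : (g3 K) ^ 3 = 1 := by
  apply Subtype.ext
  have h1 : ((g3 K ^ 3 : SpecialLinearGroup (Fin 2) K) : Matrix (Fin 2) (Fin 2) K) =
      !![0, -1; 1, -1] * !![0, -1; 1, -1] * !![0, -1; 1, -1] := by
    rw [pow_succ, pow_succ, pow_one]
    rfl
  rw [h1, Matrix.mul_fin_two, Matrix.mul_fin_two]
  ext i j
  fin_cases i <;> fin_cases j <;> simp

theorem g3_ne : pq (g3 K) ≠ 1 := by
  rw [Ne, pq_eq_one]
  rintro (h | h)
  · have h1 := congrFun (congrFun (congrArg Subtype.val h) 1) 0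
    simp [g3] at h1
  · have h1 := congrFun (congrFun (congrArg Subtype.val h) 1) 0
    simp [g3] at h1

/-- fixed spaces on `J` and `J₀` -/
theorem finrank_eig {g : SpecialLinearGroup (Fin 2) K} {n : ℕ} (hn : (n : k) ≠ 0) (hg : pq g ^ n = 1) :
    ev (Jr F (φ (pq g))) 1 = finrank k (eig (R0 f φ) g 1) + 1 := by
  have h1 : ev (Jr k (emb hF4 f (φ (pq g)))) 1 = ev (Jr F (φ (pq g))) 1 := by
    have h2 := Chg.ev_J f isJ_rJ isJ_rJ (φ (pq g)) 1
    rw [map_one] at h2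
    exact h2
  have hT : (Jr k (emb hF4 f (φ (pq g)))) ^ n = 1 := by
    rw [← map_pow, ← map_pow, ← map_pow, hg, map_one, map_one, map_one]
  have hW : LinearMap.ker (trL k) ≤ (LinearMap.ker (trL k)).comap (Jr k (emb hF4 f (φ (pq g)))) :=
    fun x hx => W0_st f φ g x hx
  have h3 := FixEv.ev_ker hn hT (trL k) trL_ne_zero (fun v => Jr_tr _ v) hW
  rw [← h1, h3]
  congr 1
  have h4 : (Module.End.eigenspace ((Jr k (emb hF4 f (φ (pq g)))).restrict hW) 1) = eig (R0 f φ) g 1 := by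
    ext x
    rw [Module.End.mem_eigenspace_iff, mem_eig]
    rfl
  unfold ev
  rw [h4]

theorem Cfg.eig4 (h : Cfg p a b H φ) (hp2 : p ≠ 2) :
    finrank k (eig (R0 f φ) (g4 K) 1) = 14 ∨ finrank k (eig (R0 f φ) (g4 K) 1) = 10 := by
  have hp : Fact p.Prime := ⟨h.prime⟩
  have := h.charF
  have := h.charK
  have hk : CharP k p := charP_of_injective_ringHom f.injective p
  have hsq : pq (g4 K) * pq (g4 K) = 1 := by
    rw [← map_mul, g4_sq]
    exact pq_eq_one.2 (Or.inr rfl)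
  have h2k : ((2 : ℕ) : k) ≠ 0 := by
    rw [Ne, CharP.cast_eq_zero_iff k p]
    exact fun h1 => hp2 ((Nat.prime_dvd_prime_iff_eq hp.out Nat.prime_two).1 h1)
  have hne : φ (pq (g4 K)) ≠ 1 := fun hh => g4_ne (h.max.inj (by rw [hh, map_one]))
  have h1 := finrank_eig (φ := φ) f (g := g4 K) (n := 2) h2k (by rw [pow_two, hsq])
  rcases (Tor.tab_finite p (isJ_rJ (F := F))).two hp2 _ hne (by rw [← map_mul, hsq, map_one]) with ⟨h2, -⟩ | ⟨h2, -⟩
  · have h3 : ev (Jr F (φ (pq (g4 K)))) 1 = 15 := h2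
    left
    omega
  · have h3 : ev (Jr F (φ (pq (g4 K)))) 1 = 11 := h2
    right
    omega

theorem Cfg.eig3 (h : Cfg p a b H φ) (hp3 : p ≠ 3) :
    finrank k (eig (R0 f φ) (g3 K) 1) = 14 ∨ finrank k (eig (R0 f φ) (g3 K) 1) = 8 := by
  have hp : Fact p.Prime := ⟨h.prime⟩
  have := h.charF
  have := h.charK
  have hk : CharP k p := charP_of_injective_ringHom f.injective p
  have hcu : pq (g3 K) ^ 3 = 1 := by rw [← map_pow, g3_cube, map_one]
  have hne : φ (pq (g3 K)) ≠ 1 := fun hh => g3_ne (h.max.inj (by rw [hh, map_one]))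
  have h3k : ((3 : ℕ) : k) ≠ 0 := by
    rw [Ne, CharP.cast_eq_zero_iff k p]
    exact fun h1 => hp3 ((Nat.prime_dvd_prime_iff_eq hp.out Nat.prime_three).1 h1)
  have h1 := finrank_eig (φ := φ) f (g := g3 K) (n := 3) h3k hcu
  rcases (Tor.tab_finite p (isJ_rJ (F := F))).three hp3 _ hne (by rw [← map_pow, hcu, map_one]) with
    ⟨h2, -⟩ | ⟨h2, -⟩ | ⟨h2, -⟩
  · have h3 : ev (Jr F (φ (pq (g3 K)))) 1 = 15 := h2
    left
    omega
  · have h3 : ev (Jr F (φ (pq (g3 K)))) 1 = 9 := h2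
    right
    omega
  · have h3 : ev (Jr F (φ (pq (g3 K)))) 1 = 9 := h2
    right
    omega

section cf

variable [DecidableEq k] [IsAlgClosed k] [DecidableEq K] (ι : K →+* k) [Fact p.Prime] [CharP k p] [CharP K p]

/-- the multiset of composition factors is that of the multiplicity function -/
theorem ms_cf {V : Type u} [AddCommGroup V] [Module k V] [FiniteDimensional k V]
    (hK : Fintype.card K = p ^ a) (ρ : Representation k (SpecialLinearGroup (Fin 2) K) V) :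
    ms p a (fun b => (cf (Sy.{u, u, v} ι p) ρ).count b) = cf (Sy.{u, u, v} ι p) ρ := by
  ext c
  rw [count_ms]
  split_ifs with hc
  · rfl
  · symm
    rw [Multiset.count_eq_zero]
    intro h
    exact hc (cf_lt.{u, u, v} ι p hK ρ c h)

/-- **the composition patterns, `p ≥ 5`** -/
theorem Cfg.pat5 (h : Cfg p a b H φ) (hp5 : 5 ≤ p) :
    ∃ w ∈ listF4, (w : Multiset (List ℕ)) = (cf (Sy.{u, u, v} ι p) (R0 f φ)).map (tyl p) := by
  rw [← ms_cf (a := a) ι h.cardK (R0 f φ)]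
  exact isMult_patF4 (isMult_cf.{u, u, v} ι p h.cardK (R0 f φ)) hp5 (R0_cen f φ) finrank_W0
    (h.eig4 f (by omega)) (h.eig3 f (by omega))

/-- **the composition patterns, `p = 3`** -/
theorem Cfg.pat3 (h : Cfg p a b H φ) (hp3 : p = 3) :
    ∃ w ∈ listF4_3, (w : Multiset (List ℕ)) = (cf (Sy.{u, u, v} ι p) (R0 f φ)).map (tyl p) := by
  rw [← ms_cf (a := a) ι h.cardK (R0 f φ)]
  exact isMult_patF4_three (isMult_cf.{u, u, v} ι p h.cardK (R0 f φ)) hp3 (R0_cen f φ) finrank_W0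
    (h.eig4 f (by omega))

/-- **the composition patterns, `p = 2`** -/
theorem Cfg.pat2 (h : Cfg p a b H φ) (hp2 : p = 2) :
    ∃ w ∈ listF4_2, (w : Multiset (List ℕ)) = (cf (Sy.{u, u, v} ι p) (R0 f φ)).map (tyl p) := by
  rw [← ms_cf (a := a) ι h.cardK (R0 f φ)]
  exact isMult_patF4_two (isMult_cf.{u, u, v} ι p h.cardK (R0 f φ)) hp2 finrank_W0 (h.eig3 f (by omega))

end cf

end cfg

end Cfsg.Agent.R2.F4M
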