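import Cfsg.Agent.R2.F4M.NoFix
import Cfsg.Agent.R2.F4N.White

/-!
# S5931, box NOFIX (helper21)

* `Cfg.fixU` : `FixU k φ` for every extension `k`; `Cfg.jl` : `J_F^L = F u0`;
* `Cfg.fix0` : `J₀` has no nonzero fixed vectors over `k` if `p ≠ 3`;
* `Cfg.fix_q3` : `(J / k u0)^L = 0` (the group is perfect), `p` arbitrary.
-/

set_option autoImplicit false
set_option linter.unusedSectionVars false

namespace Cfsg.Agent.R2.F4M

open Cfsg Cfsg.Lie Module Matrix
open Cfsg.Agent.ChevalleyStructure.E6Min.Basic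
open Cfsg.Agent.H952.F4 Cfsg.Agent.H952.F4.Jord
open Cfsg.Agent.H952.F4.FixV (W0 mem_W0 finrank_W0 u0_ne_zero tr1_sub)
open Cfsg.Agent.R2.H9.E6
open Cfsg.Agent.GpExc.Field (emb)
open Cfsg.Agent.R2.H28.SL2 Cfsg.Agent.H943.RepAdd Cfsg.Agent.R2.SL2
open Cfsg.Agent.H163.E6 (V)
open Cfsg.Agent.H65.E6Emb

universe u v w

section cfg

variable {F : Type u} [Field F] [Fintype F] {K : Type v} [Field K] [Fintype K] {p a b : ℕ}
variable {H : Subgroup ↥(chevF4.group F)} {φ : ProjectiveSpecialLinearGroup (Fin 2) K →* ↥(chevF4.group F)}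

/-- **NOFIX**: `J_k^L = k u0` -/
theorem Cfg.fixU (h : Cfg p a b H φ) (k : Type w) [Field k] [Algebra F k] : F4N.FixU k φ := by
  intro x hx
  exact h.nofix_gen (algebraMap F k) (fun t => V k (F4N.ψk k φ t)) (fun t x => V_emb (algebraMap F k) (zt F (φ t)) x) hx

/-- `J₀` has no nonzero fixed vectors if `p ≠ 3` -/
theorem Cfg.fix0 (h : Cfg p a b H φ) {k : Type u} [Field k] (f : F →+* k) (h3 : (3 : k) ≠ 0) {x : ↥(W0 k)}
    (hx : ∀ g, R0 f φ g x = x) : x = 0 := by
  obtain ⟨c, hc⟩ := h.nofix_rk f (x := x) fun g => congrArg Subtype.val (hx g)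
  have h1 : tr1 (x : I27 → k) = 0 := (mem_W0 _).1 x.2
  rw [hc, tr1_smul, tr1_u0] at h1
  have h2 : c = 0 := (mul_eq_zero.1 h1).resolve_right h3
  apply Subtype.ext
  rw [hc, h2, zero_smul]
  rfl

/-- `SL(2, K)` is perfect: a homomorphism to a commutative group is trivial -/
theorem Cfg.hom_trivial (h : Cfg p a b H φ) {A : Type w} [CommGroup A]
    (f : SpecialLinearGroup (Fin 2) K →* A) (hcen : ∀ g, pq g = 1 → f g = 1) (g : SpecialLinearGroup (Fin 2) K) :
    f g = 1 := by
  have hs := h.simple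
  -- the kernel
  let N : Subgroup (ProjectiveSpecialLinearGroup (Fin 2) K) := f.ker.map pq
  have hN : N.Normal := Subgroup.Normal.map (MonoidHom.normal_ker f) pq pq_surjective
  have hmem : ∀ g, pq g ∈ N → f g = 1 := by
    rintro g ⟨g', hg', h1⟩
    have h2 : pq (g'⁻¹ * g) = 1 := by rw [map_mul, map_inv, h1, inv_mul_cancel]
    have h3 := hcen _ h2
    rw [map_mul, map_inv, MonoidHom.mem_ker.1 hg', inv_one, one_mul] at h3
    exact h3
  rcases hN.eq_bot_or_eq_top with h1 | h1
  · exfalso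
    obtain ⟨s, t, hst⟩ := h.noncomm
    obtain ⟨s', rfl⟩ := pq_surjective s
    obtain ⟨t', rfl⟩ := pq_surjective t
    have h2 : s' * t' * s'⁻¹ * t'⁻¹ ∈ f.ker := by
      rw [MonoidHom.mem_ker, map_mul, map_mul, map_mul, map_inv, map_inv, mul_comm (f s') (f t')]
      group
    have h3 : pq (s' * t' * s'⁻¹ * t'⁻¹) ∈ N := ⟨_, h2, rfl⟩
    rw [h1, Subgroup.mem_bot, map_mul, map_mul, map_mul, map_inv, map_inv] at h3
    apply hst
    have h4 : pq s' * pq t' = (pq s' * pq t' * (pq s')⁻¹ * (pq t')⁻¹) * (pq t' * pq s') := by group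
    rw [h4, h3, one_mul]
  · exact hmem g (by rw [h1]; trivial)

/-- **`(J / k u0)^L = 0`** -/
theorem Cfg.fix_mod (h : Cfg p a b H φ) {k : Type u} [Field k] (f : F →+* k) {x : I27 → k}
    (hx : ∀ g, ∃ c : k, Rk f φ g x - x = c • u0 k) : ∃ c : k, x = c • u0 k := by
  choose c hc using hx
  have h1 : ∀ g g', c (g * g') = c g + c g' := by
    intro g g'
    have e1 : Rk f φ (g * g') x = Rk f φ g (Rk f φ g' x) := by rw [map_mul]; rfl
    have e2 : Rk f φ g' x = x + c g' • u0 k := by rw [← hc]; abel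
    have e3 : Rk f φ g x = x + c g • u0 k := by rw [← hc]; abel
    have e4 := hc (g * g')
    rw [e1, e2, map_add, map_smul, Rk_u0, e3] at e4
    have e5 : (c (g * g') - (c g + c g')) • u0 k = 0 := by
      rw [sub_smul, ← e4]
      module
    exact sub_eq_zero.1 ((smul_eq_zero.1 e5).resolve_right u0_ne_zero)
  let f' : SpecialLinearGroup (Fin 2) K →* Multiplicative k :=
    { toFun := fun g => Multiplicative.ofAdd (c g)
      map_one' := by
        have := h1 1 1
        rw [one_mul] at this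
        have h2 : c 1 = 0 := by linear_combination -this
        rw [h2]
        rfl
      map_mul' := fun g g' => by rw [h1]; rfl }
  have h2 : ∀ g, c g = 0 := by
    intro g
    have := h.hom_trivial f' (fun g hg => by
      have e1 : Rk f φ g x = x := by
        show Jr k (emb hF4 f (φ (pq g))) x = x
        rw [hg, map_one, map_one, Jr_one]
      have e2 := hc g
      rw [e1, sub_self] at e2
      have e3 : c g = 0 := (smul_eq_zero.1 e2.symm).resolve_right u0_ne_zero
      show Multiplicative.ofAdd (c g) = 1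
      rw [e3]
      rfl) g
    exact Multiplicative.ofAdd.injective this
  refine h.nofix_rk f fun g => ?_
  have h3 := hc g
  rw [h2, zero_smul] at h3
  exact sub_eq_zero.1 h3

end cfg

end Cfsg.Agent.R2.F4M
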