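import Cfsg.Agent.H333.F4J.Ad
import Cfsg.Agent.H952.F4.JMod
import Cfsg.Agent.H952.F4.FixV
import Cfsg.Agent.H952.F4.Jord
import Cfsg.Agent.H333.E6Act

/-!
# S5931: the 27-dimensional module `J` of `F₄(F)`, every field, every characteristic (helper21)

* `zt F` : the embedding of `chevF4.group F` into the simply connected group `Zgrp F` of type `E₆`;
* `Jr F` : the 27-dimensional module; `V_zt`, `V'_zt` : both modules of `Zgrp F` restrict to it;
* `Jr_u0`, `Jr_N`, `Jr_tr`, `Jr_tf`, `Jr_sh`, `Jr_cr` : the invariance of the structure;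
* `Jr_map` : change of fields.
-/

set_option autoImplicit false

namespace Cfsg.Agent.R2.F4M

open Cfsg Cfsg.Lie Module
open Cfsg.Agent.ChevalleyStructure Cfsg.Agent.ChevalleyStructure.Elts
open Cfsg.Agent.ChevalleyStructure.E6Min.Tables Cfsg.Agent.ChevalleyStructure.E6Min.Basic
open Cfsg.Agent.H952.F4 Cfsg.Agent.H952.F4.Jord
open Cfsg.Agent.H333.F4J.Ad (FZ FZ_le_Zgrp FZ_u0 eqv eqv_symm_xG coe_yU coe_xG_lt yU)
open Cfsg.Agent.H163.E6 (V V')
open Cfsg.Agent.H163.E6.Act
open Cfsg.Agent.GpExc.Field (emb)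
open scoped Matrix

universe u

section

variable (F : Type u) [Field F]

/-- the embedding of `F₄(F)` into the simply connected group of type `E₆` -/
noncomputable def zt : ↥(chevF4.group F) →* ↥(Zgrp F) :=
  (Subgroup.inclusion FZ_le_Zgrp).comp (eqv F).symm.toMonoidHom

/-- the 27-dimensional matrices -/
noncomputable def rJ : ↥(chevF4.group F) →* GL I27 F := (Zgrp F).subtype.comp (zt F)

/-- **the 27-dimensional module** -/
noncomputable def Jr : Representation F ↥(chevF4.group F) (I27 → F) := JK (rJ F)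

end

variable {F : Type u} [Field F]

theorem rJ_apply (g : ↥(chevF4.group F)) : rJ F g = ((zt F g : ↥(Zgrp F)) : GL I27 F) := rfl

theorem isJ_rJ : IsJ (rJ F) := by
  intro r t g hg
  have h1 : (g : GL chevF4.Idx F) = xG hF4 r.val t := by
    apply Units.ext
    rw [hg, coe_xG_lt r.isLt]
  have h2 := eqv_symm_xG r.isLt t g h1
  change (((eqv F).symm g : FZ F) : GL I27 F).val = _
  rw [h2]
  exact coe_yU r.isLt t

theorem zt_injective : Function.Injective (zt F) := by
  intro g h hgh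
  have h1 := congrArg (fun z : ↥(Zgrp F) => (z : GL I27 F)) hgh
  exact (eqv F).symm.injective (Subtype.ext h1)

theorem rJ_injective : Function.Injective (rJ F) := fun _ _ h => zt_injective (Subtype.ext h)

theorem Jr_apply (g : ↥(chevF4.group F)) (x : I27 → F) :
    Jr F g x = ((rJ F g : GL I27 F) : Matrix I27 I27 F) *ᵥ x := rfl

theorem Jr_mul (g h : ↥(chevF4.group F)) (x : I27 → F) : Jr F (g * h) x = Jr F g (Jr F h x) := by
  rw [map_mul]
  rfl

theorem Jr_one (x : I27 → F) : Jr F 1 x = x := by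
  rw [map_one]
  rfl

theorem Jr_inv_apply (g : ↥(chevF4.group F)) (x : I27 → F) : Jr F g⁻¹ (Jr F g x) = x := by
  rw [← Jr_mul, inv_mul_cancel, Jr_one]

theorem Jr_apply_inv (g : ↥(chevF4.group F)) (x : I27 → F) : Jr F g (Jr F g⁻¹ x) = x := by
  rw [← Jr_mul, mul_inv_cancel, Jr_one]

theorem Jr_inj (g : ↥(chevF4.group F)) : Function.Injective (Jr F g) := by
  intro x y h
  rw [← Jr_inv_apply g x, h, Jr_inv_apply]

theorem Jr_faithful {g h : ↥(chevF4.group F)} (hgh : ∀ x, Jr F g x = Jr F h x) : g = h := by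
  apply rJ_injective
  apply Units.ext
  have h1 : Matrix.toLin' ((rJ F g : GL I27 F) : Matrix I27 I27 F) =
      Matrix.toLin' ((rJ F h : GL I27 F) : Matrix I27 I27 F) := LinearMap.ext hgh
  exact Matrix.toLin'.injective h1

theorem V_zt (g : ↥(chevF4.group F)) (x : I27 → F) : V F (zt F g) x = Jr F g x := rfl

/-- the unit -/
theorem Jr_u0 (g : ↥(chevF4.group F)) : Jr F g (u0 F) = u0 F := FZ_u0 ((eqv F).symm g).2

theorem V'_zt_u0 (g : ↥(chevF4.group F)) : V' F (zt F g) (u0 F) = u0 F := by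
  have h := sh_act (zt F g) (u0 F)
  rw [V_zt, Jr_u0, sh_u0] at h
  exact h.symm

/-- the cubic form -/
theorem Jr_N (g : ↥(chevF4.group F)) (x : I27 → F) : cubicT (Jr F g x) = cubicT x := N_act (zt F g) x

/-- the trace -/
theorem Jr_tr (g : ↥(chevF4.group F)) (x : I27 → F) : tr1 (Jr F g x) = tr1 x := by
  rw [← tf_u0, ← tf_u0, tf_comm, tf_comm (u0 F), ← tf_act (zt F g) x (u0 F), V'_zt_u0, V_zt]

theorem V'_zt_tr (g : ↥(chevF4.group F)) (x : I27 → F) : tr1 (V' F (zt F g) x) = tr1 x := by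
  rw [← tf_u0, ← tf_u0, ← tf_act (zt F g) (u0 F) x, V_zt, Jr_u0]

/-- the trace form -/
theorem Jr_tf (g : ↥(chevF4.group F)) (x y : I27 → F) : tf (Jr F g x) (Jr F g y) = tf x y := by
  have h1 := tr1_cr (Jr F g x) (Jr F g y)
  have h2 := tr1_cr x y
  have h3 := cr_act (zt F g) x y
  rw [V_zt, V_zt] at h3
  rw [h3, V'_zt_tr, Jr_tr, Jr_tr, h2] at h1
  linear_combination h1

theorem V'_zt (g : ↥(chevF4.group F)) (x : I27 → F) : V' F (zt F g) x = Jr F g x := by
  rw [← sub_eq_zero]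
  refine tf_nondeg fun y => ?_
  have h1 := tf_act (zt F g) (Jr F g⁻¹ y) x
  rw [V_zt, Jr_apply_inv] at h1
  have h2 := Jr_tf g (Jr F g⁻¹ y) x
  rw [Jr_apply_inv] at h2
  rw [sub_eq_add_neg, tf_add_left, ← neg_one_smul F, tf_smul_left, tf_comm, h1, tf_comm _ y, h2]
  ring

/-- the adjoint -/
theorem Jr_sh (g : ↥(chevF4.group F)) (x : I27 → F) : sh (Jr F g x) = Jr F g (sh x) := by
  rw [← V'_zt g (sh x), ← sh_act, V_zt]

/-- its polarization -/
theorem Jr_cr (g : ↥(chevF4.group F)) (x y : I27 → F) : cr (Jr F g x) (Jr F g y) = Jr F g (cr x y) := by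
  rw [← V'_zt g (cr x y), ← cr_act, V_zt, V_zt]

/-- the root elements -/
theorem Jr_xg (r : Fin chevF4.nroots) (t : F) (x : I27 → F) : Jr F (FixL.xg r t) x = yM r.val t *ᵥ x :=
  FixV.JK_xg isJ_rJ r t x

/-- change of fields -/
theorem Jr_map {k : Type u} [Field k] (f : F →+* k) (g : ↥(chevF4.group F)) (x : I27 → F) :
    Jr k (emb hF4 f g) (fun i => f (x i)) = fun i => f (Jr F g x i) := by
  rw [Jr_apply, Jr_apply, JMod.map_isJ f isJ_rJ isJ_rJ g]
  funext i
  simp only [Matrix.mulVec, dotProduct, Matrix.map_apply, map_sum, map_mul]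

end Cfsg.Agent.R2.F4M
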