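import Cfsg.Agent.R2.F4M.Base
import Cfsg.Agent.R2.H9.E6.NoLine
import Cfsg.Agent.R2.H9.E6.Cfg
import Cfsg.Agent.H952.F4.Final
import Cfsg.Agent.S0252
import Cfsg.Agent.S0253
import Cfsg.Agent.S1054
import Cfsg.Agent.S1062

/-!
# S5931: the configuration (helper21)

* `Cfg p a b H φ` : `H` is a maximal subgroup of `F₄(p^b)`, `φ : PSL₂(p^a) →* F₄(p^b)` the embedding with image `F*(H)`,
  `p^a ≥ 7`;
* `bound_f4` : the bound for `a` in terms of `b`;
* `of_core` : reduction of S5931 to `Cfg`.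
-/

set_option autoImplicit false

namespace Cfsg.Agent.R2.F4M

open Cfsg Cfsg.Lie Module Matrix
open Cfsg.Agent.R2.H9.E6

universe u v

/-- **the configuration** -/
structure Cfg {F : Type u} [Field F] [Fintype F] {K : Type v} [Field K] [Fintype K] (p a b : ℕ)
    (H : Subgroup ↥(chevF4.group F)) (φ : ProjectiveSpecialLinearGroup (Fin 2) K →* ↥(chevF4.group F)) : Prop where
  max : MaxSimp H φ
  prime : p.Prime
  ha : 1 ≤ a
  hb : 1 ≤ b
  charF : CharP F p
  charK : CharP K p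
  cardF : Fintype.card F = p ^ b
  cardK : Fintype.card K = p ^ a
  seven : 7 ≤ Fintype.card K
  bound : a = 1 ∨ (p = 2 ∧ a = 3) ∨ ∃ d ∈ [2, 6, 8, 12], 2 * a ∣ b * d

theorem bound_f4 {F : Type u} [Field F] [Fintype F] {p b : ℕ} (hp : p.Prime) (hF : Fintype.card F = p ^ b)
    {K : Type v} [Field K] [Fintype K] {a : ℕ} (ha : 1 ≤ a) (hK : Fintype.card K = p ^ a)
    {φ : ProjectiveSpecialLinearGroup (Fin 2) K →* ↥(chevF4.group F)} (hφ : Function.Injective φ) :
    a = 1 ∨ (p = 2 ∧ a = 3) ∨ ∃ d ∈ [2, 6, 8, 12], 2 * a ∣ b * d := by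
  by_cases h1 : a = 1
  · exact Or.inl h1
  by_cases h3 : p = 2 ∧ a = 3
  · exact Or.inr (Or.inl h3)
  right; right
  obtain ⟨r, hr, hr2, hrp, hra, hrb, hrc⟩ := exists_prim p a hp ha h1 h3
  have h4 := (prime_dvd_psl hK hr hr2 hra).trans (Subgroup.card_dvd_of_injective φ hφ)
  have h5 := S1062.result (F := F) hF
  rw [h5] at h4
  have key : ∀ d, r ∣ (p ^ b) ^ d - 1 → 2 * a ∣ b * d := by
    intro d hd
    rw [← pow_mul] at hd
    exact dvd_of_primitive hp.one_lt hr hrb hrc (by omega) hd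
  have hq : ¬ r ∣ (p ^ b) ^ 24 := by
    intro h
    exact hrp ((Nat.prime_dvd_prime_iff_eq hr hp).1 (hr.dvd_of_dvd_pow (hr.dvd_of_dvd_pow h)))
  simp only [Nat.Prime.dvd_mul hr] at h4
  rcases h4 with (((h | h) | h) | h) | h
  · exact absurd h hq
  · exact ⟨2, by simp, key 2 h⟩
  · exact ⟨6, by simp, key 6 h⟩
  · exact ⟨8, by simp, key 8 h⟩
  · exact ⟨12, by simp, key 12 h⟩

/-- the order of `F₄(q)` -/
theorem card_f4_ge {F : Type u} [Field F] [Finite F] : Nat.card F ^ 52 ≤ 2 * Nat.card ↥(chevF4.group F) := by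
  have hfin := Fintype.ofFinite F
  have ho := S1062.result (F := F) Nat.card_eq_fintype_card.symm
  have hq : 2 ≤ Nat.card F := Finite.one_lt_card
  set q := Nat.card F with hqd
  set N := Nat.card ↥(chevF4.group F)
  have k2 := key_pow hq 2
  have k6 := key_pow hq 6
  have k8 := key_pow hq 8
  have k12 := key_pow hq 12
  have h2 : (2 ^ 2 - 1) * (2 ^ 6 - 1) * (2 ^ 8 - 1) * (2 ^ 12 - 1) * q ^ 52 ≤ 2 ^ 28 * N := by
    calc (2 ^ 2 - 1) * (2 ^ 6 - 1) * (2 ^ 8 - 1) * (2 ^ 12 - 1) * q ^ 52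
        = q ^ 24 * ((2 ^ 2 - 1) * q ^ 2) * ((2 ^ 6 - 1) * q ^ 6) * ((2 ^ 8 - 1) * q ^ 8) *
          ((2 ^ 12 - 1) * q ^ 12) := by ring
      _ ≤ q ^ 24 * (2 ^ 2 * (q ^ 2 - 1)) * (2 ^ 6 * (q ^ 6 - 1)) * (2 ^ 8 * (q ^ 8 - 1)) *
          (2 ^ 12 * (q ^ 12 - 1)) := by gcongr
      _ = 2 ^ 28 * (q ^ 24 * (q ^ 2 - 1) * (q ^ 6 - 1) * (q ^ 8 - 1) * (q ^ 12 - 1)) := by ring
      _ = _ := by rw [← ho]
  norm_num at h2
  omega

section

variable {F : Type u} [Field F] [Fintype F] {K : Type v} [Field K] [Fintype K] {p a b : ℕ}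
variable {H : Subgroup ↥(chevF4.group F)} {φ : ProjectiveSpecialLinearGroup (Fin 2) K →* ↥(chevF4.group F)}

theorem simple_f4 (F : Type u) [Field F] : IsSimpleGroup ↥(chevF4.group F) := (S1054.result chevF4 (by simp)).1

theorem Cfg.le (h : Cfg p a b H φ) : a ≤ 6 * b := by
  have hb := h.hb
  rcases h.bound with h1 | ⟨-, h1⟩ | ⟨d, hd, h1⟩
  · omega
  · omega
  · have h2 : 2 * a ≤ b * d := Nat.le_of_dvd (Nat.mul_pos (by omega) (by
      fin_cases hd <;> norm_num)) h1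
    have h3 : d ≤ 12 := by fin_cases hd <;> norm_num
    nlinarith

/-- the order of `H` -/
theorem Cfg.card_le (h : Cfg p a b H φ) : Nat.card ↥H ≤ a * (p ^ a) ^ 3 := by
  have : Fact p.Prime := ⟨h.prime⟩
  exact h.max.card_le.trans (card_aut_le h.ha h.cardK (by have := h.seven; omega))

/-- the order of `H` in terms of `q` -/
theorem Cfg.card_le' (h : Cfg p a b H φ) : Nat.card ↥H ≤ 3 * (p ^ b) ^ 19 := by
  have : Fact p.Prime := ⟨h.prime⟩
  have h1 := card_aut_le' (K := K) h.ha h.hb h.cardK (by have := h.seven; omega) h.le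
  have h2 := h.max.card_le
  have h3 : 2 * Nat.card (MulAut (ProjectiveSpecialLinearGroup (Fin 2) K)) ≤ 6 * (p ^ b) ^ 19 := h1
  omega

theorem exists_cfg (hp : p.Prime) (ha : 1 ≤ a) (hb : 1 ≤ b) (hF : Fintype.card F = p ^ b) (hK : Fintype.card K = p ^ a)
    (h7 : 7 ≤ Fintype.card K) (hH : IsCoatom H)
    (e : Nonempty (↥(generalizedFittingSubgroup ↥H) ≃* ProjectiveSpecialLinearGroup (Fin 2) K)) :
    ∃ φ : ProjectiveSpecialLinearGroup (Fin 2) K →* ↥(chevF4.group F), Cfg p a b H φ := by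
  have hs := simple_f4 F
  have hsA := psl_simple (K := K) (by omega)
  obtain ⟨φ, hM⟩ := exists_maxSimp hH (psl_noncomm (by omega)) e
  exact ⟨φ, hM, hp, ha, hb, charP_of_card hp hF, charP_of_card hp hK, hF, hK, h7, bound_f4 hp hF ha hK hM.inj⟩

/-- **reduction of S5931** -/
theorem of_core [Fact p.Prime] (ha : 1 ≤ a) (hb : 1 ≤ b) (hF : Fintype.card F = p ^ b) (hK : Fintype.card K = p ^ a)
    (hH : IsCoatom H)
    (hL : Nonempty (↥(generalizedFittingSubgroup ↥H) ≃* ProjectiveSpecialLinearGroup (Fin 2) K))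
    (core : ∀ φ : ProjectiveSpecialLinearGroup (Fin 2) K →* ↥(chevF4.group F), Cfg p a b H φ → 13 ≤ p ∧ a = b) :
    13 ≤ p ∧ a = b := by
  have hp : p.Prime := Fact.out
  obtain ⟨e⟩ := hL
  have h4 := four_le_of_genFitting e
  by_cases h7 : 7 ≤ Fintype.card K
  · obtain ⟨φ, hφ⟩ := exists_cfg hp ha hb hF hK h7 hH ⟨e⟩
    exact core φ hφ
  · exfalso
    have hCF : CharP F p := charP_of_card hp hF
    have hpd : p ∣ Fintype.card K := by rw [hK]; exact dvd_pow_self p (by omega)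
    have h6 : Fintype.card K ≠ 6 := by
      intro h6
      rw [h6] at hK hpd
      have h2 : 2 ∣ p ^ a := by rw [← hK]; norm_num
      have h3 : 3 ∣ p ^ a := by rw [← hK]; norm_num
      have h2' := (Nat.prime_dvd_prime_iff_eq Nat.prime_two hp).1 (Nat.prime_two.dvd_of_dvd_pow h2)
      have h3' := (Nat.prime_dvd_prime_iff_eq Nat.prime_three hp).1 (Nat.prime_three.dvd_of_dvd_pow h3)
      omega
    have h : Fintype.card K = 4 ∨ Fintype.card K = 5 := by omega
    rcases h with h | h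
    · obtain ⟨e'⟩ := S0252.result h
      have := (H952.F4.Final.final p H hH 5 le_rfl ⟨e.trans e'⟩).1
      omega
    · obtain ⟨e'⟩ := S0253.result h
      have := (H952.F4.Final.final p H hH 5 le_rfl ⟨e.trans e'⟩).1
      omega

end

end Cfsg.Agent.R2.F4M
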