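import Cfsg.Agent.R2.F4M.Kc

/-!
# S5931: the quadratic extension (helper21)

* `Qd i s` : `i : F →+* E` the quadratic extension of a finite field, `s` the Frobenius automorphism; `exists_quad`;
* `exists_eig` : eigenvectors of operators `T`, `T ^ N = 1`, `N ∣ p ^ m (|E| - 1)`;
* `Nb_dvd` : `24` resp. `72` divides `p ^ 3 (p ^ (2 b) - 1)`.
-/

set_option autoImplicit false
set_option linter.unusedSectionVars false

namespace Cfsg.Agent.R2.F4M

open Cfsg Cfsg.Lie Module

universe u v w

/-! ### the field -/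

/-- the quadratic extension -/
structure Qd {F E : Type u} [Field F] [Fintype F] [Field E] [Fintype E] (i : F →+* E) (s : E →+* E) : Prop where
  frob : ∀ x, s x = x ^ Fintype.card F
  card : Fintype.card E = Fintype.card F ^ 2

theorem exists_quad (F : Type u) [Field F] [Fintype F] {p b : ℕ} [Fact p.Prime] [CharP F p]
    (hF : Fintype.card F = p ^ b) :
    ∃ (E : Type u) (_ : Field E) (_ : Fintype E) (i : F →+* E) (s : E →+* E), CharP E p ∧ Qd i s := by
  let E0 := FiniteField.Extension F p 2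
  let E := ULift.{u} E0
  let _ : Field E := inferInstanceAs (Field (ULift.{u} E0))
  have hfE0 : Finite E0 := inferInstance
  have hfE : Finite E := inferInstanceAs (Finite (ULift.{u} E0))
  let _ : Fintype E := Fintype.ofFinite E
  let i : F →+* E := (ULift.ringEquiv (R := E0)).symm.toRingHom.comp (algebraMap F E0)
  have hc : CharP E p := charP_of_injective_ringHom i.injective p
  refine ⟨E, inferInstance, inferInstance, i, iterateFrobenius E p b, hc, ?_, ?_⟩
  · intro x
    rw [hF]
    rfl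
  · rw [← Nat.card_eq_fintype_card, ← Nat.card_eq_fintype_card]
    have h1 : Nat.card E = Nat.card E0 := Nat.card_congr Equiv.ulift
    rw [h1]
    exact FiniteField.natCard_extension F p 2

section qd

variable {F E : Type u} [Field F] [Fintype F] [Field E] [Fintype E] {i : F →+* E} {s : E →+* E}

theorem Qd.ss (h : Qd i s) (x : E) : s (s x) = x := by
  rw [h.frob, h.frob, ← pow_mul, ← pow_two, ← h.card]
  exact FiniteField.pow_card x

theorem Qd.si (h : Qd i s) (x : F) : s (i x) = i x := by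
  rw [h.frob, ← map_pow, FiniteField.pow_card]

open Polynomial in
/-- the fixed field -/
theorem Qd.fix (h : Qd i s) {x : E} (hx : s x = x) : ∃ y, i y = x := by
  classical
  have h1 : 1 < Fintype.card F := Fintype.one_lt_card
  have hne : (X ^ Fintype.card F - X : E[X]) ≠ 0 := FiniteField.X_pow_card_sub_X_ne_zero E h1
  have hsub : (Finset.univ.image i : Finset E) ⊆ (X ^ Fintype.card F - X : E[X]).roots.toFinset := by
    intro z hz
    obtain ⟨y, -, rfl⟩ := Finset.mem_image.1 hz
    rw [Multiset.mem_toFinset, mem_roots hne, IsRoot.def, eval_sub, eval_pow, eval_X, ← h.frob, h.si, sub_self]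
  have hcard : (X ^ Fintype.card F - X : E[X]).roots.toFinset.card ≤ (Finset.univ.image i : Finset E).card := by
    rw [Finset.card_image_of_injective _ i.injective, Finset.card_univ]
    refine (Multiset.toFinset_card_le _).trans ((card_roots' _).trans ?_)
    rw [FiniteField.X_pow_card_sub_X_natDegree_eq E h1]
  have heq := Finset.eq_of_subset_of_card_le hsub hcard
  have h2 : x ∈ (X ^ Fintype.card F - X : E[X]).roots.toFinset := by
    rw [Multiset.mem_toFinset, mem_roots hne, IsRoot.def, eval_sub, eval_pow, eval_X, ← h.frob, hx, sub_self]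
  rw [← heq] at h2
  obtain ⟨y, -, hy⟩ := Finset.mem_image.1 h2
  exact ⟨y, hy⟩

theorem Qd.exists_ne (h : Qd i s) : ∃ α, s α ≠ α := by
  by_contra hcon
  push Not at hcon
  have h1 : Function.Surjective i := fun x => h.fix (hcon x)
  have h2 := Fintype.card_le_of_surjective i h1
  have h3 : 1 < Fintype.card F := Fintype.one_lt_card
  rw [h.card] at h2
  nlinarith

end qd

/-! ### eigenvectors -/

open Polynomial in
theorem exists_eig {E : Type u} [Field E] [Fintype E] {V : Type v} [AddCommGroup V] [Module E V]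
    [FiniteDimensional E V] [Nontrivial V] {p : ℕ} [Fact p.Prime] [CharP E p] {T : Module.End E V} {N m : ℕ}
    (hT : T ^ N = 1) (hN : N ∣ p ^ m * (Fintype.card E - 1)) : ∃ (c : E) (v : V), v ≠ 0 ∧ T v = c • v := by
  classical
  have h1 : 1 < Fintype.card E := Fintype.one_lt_card
  have hT' : T ^ (p ^ m * (Fintype.card E - 1)) = 1 := by
    obtain ⟨c, hc⟩ := hN
    rw [hc, pow_mul, hT, one_pow]
  set P : E[X] := (X ^ Fintype.card E - X) ^ p ^ m with hP
  have hP0 : P ≠ 0 := pow_ne_zero _ (FiniteField.X_pow_card_sub_X_ne_zero E h1)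
  have hsp : P.Splits := by
    have h2 := splits_X_pow_nat_card_sub_X (K := E)
    rw [Nat.card_eq_fintype_card] at h2
    exact h2.pow _
  have hae : aeval T P = 0 := by
    rw [hP, sub_pow_char_pow, map_sub, map_pow, map_pow, map_pow, aeval_X, ← pow_mul]
    have h3 : Fintype.card E * p ^ m = p ^ m * (Fintype.card E - 1) + p ^ m := by
      obtain ⟨c, hc⟩ : ∃ c, Fintype.card E = c + 1 := ⟨Fintype.card E - 1, by omega⟩
      rw [hc, Nat.add_sub_cancel]
      ring
    rw [h3, pow_add, hT', one_mul, sub_self]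
  have hdvd : minpoly E T ∣ P := minpoly.dvd E T hae
  have hsp' : (minpoly E T).Splits := hsp.of_dvd hP0 hdvd
  have hdeg : (minpoly E T).degree ≠ 0 := (minpoly.degree_pos (Algebra.IsIntegral.isIntegral T)).ne'
  obtain ⟨c, hc⟩ := hsp'.exists_eval_eq_zero hdeg
  have h4 : T.HasEigenvalue c := Module.End.hasEigenvalue_of_isRoot hc
  obtain ⟨v, hv⟩ := h4.exists_hasEigenvector
  exact ⟨c, v, hv.2, hv.apply_eq_smul⟩

/-! ### numbers -/

/-- the exponent -/
def Nb (b : ℕ) : ℕ := if 3 ∣ b then 72 else 24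

theorem Nb_dvd {p b : ℕ} (hp : p.Prime) (hb : 1 ≤ b) : Nb b ∣ p ^ 3 * (p ^ (2 * b) - 1) := by
  have key : ∀ m : ℕ, p ^ (2 * b) ≡ 1 [MOD m] → m ∣ p ^ (2 * b) - 1 := fun m hm =>
    (Nat.modEq_iff_dvd' (Nat.one_le_pow _ _ hp.pos)).1 hm.symm
  have h8 : 8 ∣ p ^ 3 * (p ^ (2 * b) - 1) := by
    rcases hp.eq_two_or_odd with rfl | h2
    · exact Dvd.dvd.mul_right (by norm_num) _
    · refine Dvd.dvd.mul_left (key 8 ?_) _
      rw [pow_mul]
      have h3 : p ^ 2 ≡ 1 [MOD 8] := by
        have h4 : p % 8 = 1 ∨ p % 8 = 3 ∨ p % 8 = 5 ∨ p % 8 = 7 := by omega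
        rcases h4 with h | h | h | h <;> simp [Nat.ModEq, Nat.pow_mod, h]
      simpa using h3.pow b
  have h9 : 3 ∣ b → 9 ∣ p ^ 3 * (p ^ (2 * b) - 1) := by
    rintro ⟨c, rfl⟩
    by_cases h3 : p = 3
    · subst h3
      exact Dvd.dvd.mul_right (by norm_num) _
    · refine Dvd.dvd.mul_left (key 9 ?_) _
      rw [show 2 * (3 * c) = 6 * c by ring, pow_mul]
      have h4 : ¬ 3 ∣ p := fun h => h3 ((Nat.prime_dvd_prime_iff_eq Nat.prime_three hp).1 h).symm
      have h5 : p ^ 6 ≡ 1 [MOD 9] := by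
        have h6 : p % 9 = 1 ∨ p % 9 = 2 ∨ p % 9 = 4 ∨ p % 9 = 5 ∨ p % 9 = 7 ∨ p % 9 = 8 := by omega
        rcases h6 with h | h | h | h | h | h <;> simp [Nat.ModEq, Nat.pow_mod, h]
      simpa using h5.pow c
  have h3 : 3 ∣ p ^ 3 * (p ^ (2 * b) - 1) := by
    by_cases h3 : p = 3
    · subst h3
      exact Dvd.dvd.mul_right (by norm_num) _
    · refine Dvd.dvd.mul_left (key 3 ?_) _
      rw [pow_mul]
      have h4 : ¬ 3 ∣ p := fun h => h3 ((Nat.prime_dvd_prime_iff_eq Nat.prime_three hp).1 h).symm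
      have h5 : p ^ 2 ≡ 1 [MOD 3] := by
        have h6 : p % 3 = 1 ∨ p % 3 = 2 := by omega
        rcases h6 with h | h <;> simp [Nat.ModEq, Nat.pow_mod, h]
      simpa using h5.pow b
  unfold Nb
  split_ifs with hb3
  · exact Nat.Coprime.mul_dvd_of_dvd_of_dvd (m := 8) (n := 9) (by norm_num) h8 (h9 hb3)
  · exact Nat.Coprime.mul_dvd_of_dvd_of_dvd (m := 8) (n := 3) (by norm_num) h8 h3

end Cfsg.Agent.R2.F4M
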