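import Cfsg.Agent.R2.F4M.Rk
import Cfsg.Agent.R2.F4M.Quad
import Cfsg.Agent.R2.H8.NoFix.Rep
import Cfsg.Agent.R2.H8.NoFix.Aut

/-!
# S5931: the elements of `H` and the digit shifts (helper21)

* `Cfg.exists_sft` : every `g ∈ H` induces on `L` an automorphism with field part `x ↦ x ^ p ^ m`; the multiset of the
  composition factors of `J₀` over `k` is stable under the shift by `gcd(m, a)`;
* `Cfg.pow_mem` : if `J₀` has a trivial composition factor, `g ^ N ∈ L` for all `g ∈ H`, where `N = 72` if `3 ∣ b` and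
  `N = 24` otherwise.
-/

set_option autoImplicit false
set_option linter.unusedSectionVars false

namespace Cfsg.Agent.R2.F4M

open Cfsg Cfsg.Lie Module Matrix
open Cfsg.Agent.ChevalleyStructure.E6Min.Basic
open Cfsg.Agent.H952.F4 Cfsg.Agent.H952.F4.Jord
open Cfsg.Agent.H952.F4.FixV (W0 mem_W0)
open Cfsg.Agent.R2.H9.E6
open Cfsg.Agent.GpExc.Field (emb)
open Cfsg.Agent.R2.H28.SL2 Cfsg.Agent.H943.RepAdd Cfsg.Agent.R2.SL2
open Cfsg.Agent.R2.H8.NoFix.Shift Cfsg.Agent.R2.H8.NoFix.Rep Cfsg.Agent.R2.H8.NoFix.Aut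
open Cfsg.Agent.H199.PslAut
open Cfsg.Agent.ClassicalGeometry.AutPSL.Auto (cj fld coe_cj coe_fld_apply)

universe u v

section gcd

/-- the gcd of the numbers of nonzero digits -/
def gc (w : List (List ℕ)) : ℕ := (w.map fun t => t.length * w.count t).foldr Nat.gcd 0

theorem dvd_gc {n : ℕ} {w : List (List ℕ)} (h : ∀ t, n ∣ t.length * w.count t) : n ∣ gc w := by
  have key : ∀ l : List ℕ, (∀ x ∈ l, n ∣ x) → n ∣ l.foldr Nat.gcd 0 := by
    intro l
    induction l with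
    | nil => intro _; exact dvd_zero n
    | cons x l ih =>
      intro hl
      rw [List.foldr_cons]
      exact Nat.dvd_gcd (hl x (List.mem_cons_self ..)) (ih fun y hy => hl y (List.mem_cons_of_mem x hy))
  refine key _ fun x hx => ?_
  obtain ⟨t, -, rfl⟩ := List.mem_map.1 hx
  exact h t

theorem count_coe (w : List (List ℕ)) (t : List ℕ) : Multiset.count t (w : Multiset (List ℕ)) = w.count t := by
  rw [Multiset.coe_count]
  unfold List.count
  congr 1
  funext x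
  by_cases h : x = t <;> simp [h]

theorem gc5 : ∀ w ∈ listF4, w.count [] = 0 ∨ gc w ∣ 72 := by decide +kernel
theorem gc3 : ∀ w ∈ listF4_3, w.count [] = 0 ∨ gc w ∣ 72 := by decide +kernel
theorem gc2 : ∀ w ∈ listF4_2, w.count [] = 0 ∨ gc w ∣ 72 := by decide +kernel

end gcd

section cfg

variable {F : Type u} [Field F] [Fintype F] {K : Type v} [Field K] [Fintype K] {p a b : ℕ}
variable {H : Subgroup ↥(chevF4.group F)} {φ : ProjectiveSpecialLinearGroup (Fin 2) K →* ↥(chevF4.group F)}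

/-- the linear transformation of `J₀` over `k` given by an element of `G` -/
noncomputable def gT {k : Type u} [Field k] (f : F →+* k) (g : ↥(chevF4.group F)) : ↥(W0 k) ≃ₗ[k] ↥(W0 k) where
  toFun x := ⟨Jr k (emb hF4 f g) x, by rw [mem_W0, Jr_tr]; exact (mem_W0 _).1 x.2⟩
  map_add' x y := Subtype.ext (map_add _ _ _)
  map_smul' c x := Subtype.ext (map_smul _ _ _)
  invFun x := ⟨Jr k (emb hF4 f g)⁻¹ x, by rw [mem_W0, Jr_tr]; exact (mem_W0 _).1 x.2⟩
  left_inv x := Subtype.ext (Jr_inv_apply _ _)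
  right_inv x := Subtype.ext (Jr_apply_inv _ _)

theorem gT_apply {k : Type u} [Field k] (f : F →+* k) (g : ↥(chevF4.group F)) (x : ↥(W0 k)) :
    ((gT f g x : ↥(W0 k)) : I27 → k) = Jr k (emb hF4 f g) x := rfl

/-- the twist of the representation of `SL(2, K)` on `J₀` by an element inducing `(C, σ)` -/
theorem gT_twist {k : Type u} [Field k] (f : F →+* k) {g : ↥(chevF4.group F)} {C : GL (Fin 2) K} {σ : K ≃+* K}
    (hg : ∀ s, φ (pq (cj C (fld σ s))) = g * φ (pq s) * g⁻¹) (s : SpecialLinearGroup (Fin 2) K) (v : ↥(W0 k)) :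
    gT f g (R0 f φ s v) = R0 f φ (cj C (fld σ s)) (gT f g v) := by
  apply Subtype.ext
  rw [gT_apply, R0_apply, R0_apply, gT_apply, Rk_apply, Rk_apply, hg, ← Jr_mul, ← Jr_mul, ← map_mul, ← map_mul,
    inv_mul_cancel_right]

variable {k : Type u} [Field k] (f : F →+* k)
variable [DecidableEq k] [IsAlgClosed k] [DecidableEq K] (ι : K →+* k) [Fact p.Prime] [CharP k p] [CharP K p]

/-- **the shift of the composition factors** -/
theorem Cfg.shift (h : Cfg p a b H φ) {g : ↥(chevF4.group F)} {C : GL (Fin 2) K} {σ : K ≃+* K}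
    (hg : ∀ s, φ (pq (cj C (fld σ s))) = g * φ (pq s) * g⁻¹) {j : ℕ} (hσ : ∀ x, σ x = x ^ p ^ j) :
    (cf (Sy.{u, u, v} ι p) (R0 f φ)).map (cyc p a)^[j] = cf (Sy.{u, u, v} ι p) (R0 f φ) :=
  cf_shift.{u, u, v} ι p h.cardK (R0 f φ) (C := C) hσ (gT f g) fun s v => gT_twist f hg s v

theorem Cfg.pow_card (h : Cfg p a b H φ) (x : K) : x ^ p ^ a = x := by
  rw [← h.cardK]
  exact FiniteField.pow_card x

theorem Cfg.pow_mul_a (h : Cfg p a b H φ) (x : K) (m : ℕ) : x ^ p ^ (a * m) = x := by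
  induction m with
  | zero => rw [mul_zero, pow_zero, pow_one]
  | succ m ih => rw [mul_add, mul_one, pow_add, pow_mul, ih, h.pow_card]

/-- the powers of the Frobenius automorphism -/
theorem Cfg.frob_pow (_h : Cfg p a b H φ) {σ : K ≃+* K} {m : ℕ} (hσ : ∀ x, σ x = x ^ p ^ m) (t : ℕ) (x : K) :
    (σ ^ t) x = x ^ p ^ (m * t) := by
  induction t with
  | zero => rw [pow_zero, mul_zero, pow_zero, pow_one]; rfl
  | succ t ih => rw [pow_succ', RingAut.mul_apply, ih, hσ, ← pow_mul, mul_add, mul_one, pow_add]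

theorem Cfg.pow_congr (h : Cfg p a b H φ) {m n : ℕ} (hmn : m ≡ n [MOD a]) (x : K) : x ^ p ^ m = x ^ p ^ n := by
  have key : ∀ m : ℕ, x ^ p ^ m = x ^ p ^ (m % a) := by
    intro m
    conv_lhs => rw [← Nat.div_add_mod m a, pow_add, pow_mul, h.pow_mul_a]
  rw [key m, key n, hmn]

/-- an element of `H` inducing `α` on `L` -/
theorem exists_ind_of {α : MulAut (ProjectiveSpecialLinearGroup (Fin 2) K)} {g : ↥(chevF4.group F)}
    (hg : ∀ x, φ (α x) = g * φ x * g⁻¹) :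
    ∃ C : GL (Fin 2) K, ∀ s, φ (pq (cj C (fld (fa K α) s))) = g * φ (pq s) * g⁻¹ := by
  obtain ⟨C, hC⟩ := fa_spec α
  refine ⟨C, fun s => ?_⟩
  rw [← hg]
  congr 1
  conv_rhs => rw [hC]
  rfl

theorem ind_pow {α : MulAut (ProjectiveSpecialLinearGroup (Fin 2) K)} {g : ↥(chevF4.group F)}
    (hg : ∀ x, φ (α x) = g * φ x * g⁻¹) (t : ℕ) : ∀ x, φ ((α ^ t) x) = g ^ t * φ x * (g ^ t)⁻¹ := by
  induction t with
  | zero => intro x; rw [pow_zero, pow_zero, MulAut.one_apply]; group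
  | succ t ih =>
    intro x
    rw [pow_succ, MulAut.mul_apply, ih, hg, pow_succ]
    group

/-- **the field part of an element of `H`** -/
theorem Cfg.exists_sft (h : Cfg p a b H φ) {α : MulAut (ProjectiveSpecialLinearGroup (Fin 2) K)}
    {g : ↥(chevF4.group F)} (hg : ∀ x, φ (α x) = g * φ x * g⁻¹) :
    ∃ j n, a = j * n ∧ (fa K α) ^ n = 1 ∧
      (cf (Sy.{u, u, v} ι p) (R0 f φ)).map (cyc p a)^[j] = cf (Sy.{u, u, v} ι p) (R0 f φ) := by
  obtain ⟨m, hm⟩ := exists_pow p (fa K α)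
  have ha := h.ha
  obtain ⟨n, hn⟩ := Nat.gcd_dvd_right m a
  obtain ⟨m', hm'⟩ := Nat.gcd_dvd_left m a
  -- Bezout
  obtain ⟨t, ht⟩ : ∃ t, m * t ≡ Nat.gcd m a [MOD a] := by
    rcases Nat.lt_or_ge (Nat.gcd m a) a with h1 | h1
    · obtain ⟨t, -, ht⟩ := Nat.exists_mul_mod_eq_gcd h1
      refine ⟨t, ?_⟩
      show m * t % a = Nat.gcd m a % a
      rw [ht, Nat.mod_eq_of_lt h1]
    · refine ⟨0, ?_⟩
      have h2 : Nat.gcd m a = a := le_antisymm (Nat.le_of_dvd (by omega) (Nat.gcd_dvd_right m a)) h1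
      rw [h2, mul_zero]
      exact (Nat.modEq_zero_iff_dvd.2 dvd_rfl).symm
  refine ⟨Nat.gcd m a, n, hn, ?_, ?_⟩
  · apply RingEquiv.ext
    intro x
    rw [h.frob_pow hm, h.pow_congr (n := 0), pow_zero, pow_one]
    · rfl
    · rw [Nat.modEq_zero_iff_dvd]
      refine ⟨m', ?_⟩
      conv_lhs => rw [hm']
      conv_rhs => rw [hn]
      ring
  · obtain ⟨C, hC⟩ := exists_ind_of (ind_pow hg t)
    refine h.shift f ι hC fun x => ?_
    rw [map_pow, h.frob_pow hm, h.pow_congr ht]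

/-- **the order of the field part** if there is a trivial composition factor -/
theorem Cfg.exists_ord (h : Cfg p a b H φ) (h0 : (0 : ℕ) ∈ cf (Sy.{u, u, v} ι p) (R0 f φ))
    {α : MulAut (ProjectiveSpecialLinearGroup (Fin 2) K)} {g : ↥(chevF4.group F)}
    (hg : ∀ x, φ (α x) = g * φ x * g⁻¹) : ∃ n, n ∣ a ∧ n ∣ 72 ∧ (fa K α) ^ n = 1 := by
  obtain ⟨j, n, hj, hn, hs⟩ := h.exists_sft f ι hg
  refine ⟨n, ⟨j, by rw [hj, mul_comm]⟩, ?_, hn⟩
  have h1 : ∀ t, n ∣ t.length * ((cf (Sy.{u, u, v} ι p) (R0 f φ)).map (tyl p)).count t :=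
    dvd_of_inv h.ha hj (cf_lt.{u, u, v} ι p h.cardK _) hs
  have h2 : ∃ w : List (List ℕ), (w : Multiset (List ℕ)) = (cf (Sy.{u, u, v} ι p) (R0 f φ)).map (tyl p) ∧
      (w.count [] = 0 ∨ gc w ∣ 72) := by
    have hp := h.prime
    rcases Nat.lt_or_ge p 5 with hp5 | hp5
    · have hp23 : p = 2 ∨ p = 3 := by
        have := hp.two_le
        interval_cases p
        · exact Or.inl rfl
        · exact Or.inr rfl
        · exact absurd hp (by norm_num)
      rcases hp23 with hp2 | hp3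
      · obtain ⟨w, hw, hw'⟩ := h.pat2 f ι hp2
        exact ⟨w, hw', gc2 w hw⟩
      · obtain ⟨w, hw, hw'⟩ := h.pat3 f ι hp3
        exact ⟨w, hw', gc3 w hw⟩
    · obtain ⟨w, hw, hw'⟩ := h.pat5 f ι hp5
      exact ⟨w, hw', gc5 w hw⟩
  obtain ⟨w, hw, h3⟩ := h2
  have h4 : w.count [] ≠ 0 := by
    rw [← count_coe, hw, Multiset.count_ne_zero, Multiset.mem_map]
    refine ⟨0, h0, ?_⟩
    have h5 := coe_tyl p 0
    rw [typ_zero] at h5
    exact Multiset.coe_eq_zero _ |>.1 h5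
  refine (dvd_gc fun t => ?_).trans (h3.resolve_left h4)
  rw [← count_coe, hw]
  exact h1 t


/-- **`g ^ N ∈ L` for all `g ∈ H`** if there is a trivial composition factor -/
theorem Cfg.pow_mem (h : Cfg p a b H φ) (h0 : (0 : ℕ) ∈ cf (Sy.{u, u, v} ι p) (R0 f φ)) {g : ↥(chevF4.group F)}
    (hg : g ∈ H) : ∃ s, g ^ Nb b = φ s := by
  obtain ⟨τ, hτ, hact, hconj⟩ := h.max.act
  obtain ⟨n, hna, hn72, hn⟩ := h.exists_ord f ι h0 (hact ⟨g, hg⟩)
  have hnN : n ∣ Nb b := by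
    unfold Nb
    split_ifs with hb
    · exact hn72
    · have h9 : ¬ 9 ∣ n := by
        intro h9
        have h9a := h9.trans hna
        apply hb
        rcases h.bound with h1 | ⟨-, h1⟩ | ⟨d, hd, h1⟩
        · rw [h1] at h9a
          omega
        · rw [h1] at h9a
          omega
        · have h2 : 9 ∣ b * d := (h9a.trans (Dvd.intro_left 2 rfl)).trans h1
          fin_cases hd <;> omega
      have h3 : n ∈ Nat.divisors 72 := Nat.mem_divisors.2 ⟨hn72, by norm_num⟩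
      have h4 : ∀ n ∈ Nat.divisors 72, ¬ 9 ∣ n → n ∣ 24 := by decide
      exact h4 n h3 h9
  have h2 : Even (Nb b) := by
    unfold Nb
    split_ifs <;> decide
  obtain ⟨c, hc⟩ := hnN
  obtain ⟨s, hs⟩ := pow_inner (α := τ ⟨g, hg⟩) (N := Nb b) (by rw [hc, pow_mul, hn, one_pow]) (Or.inl h2)
  refine ⟨s, ?_⟩
  have h3 : τ (⟨g, hg⟩ ^ Nb b) = τ ⟨φ s, h.mem s⟩ := by rw [map_pow, hs, hconj]
  exact congrArg Subtype.val (hτ h3)

end cfg

end Cfsg.Agent.R2.F4M
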