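import Cfsg.Agent.R2.F4M.Nf
import Cfsg.Agent.R2.F4M.Sft

/-!
# S5931: frames of idempotents, characteristic 2 (helper21)

* `Frm e1 e2 e3` : three orthogonal primitive idempotents with sum 1; `AA e` : the vectors with `e × v = v`;
* `Frm.le` : the sum of the dimensions of the `AA e_i` is at most 28; `Frm.eq_one` : an automorphism which fixes the `e_i` and
  the `AA e_i` is trivial;
* `Cfg.no_ew` : there are no common eigenvectors.
-/

set_option autoImplicit false
set_option linter.unusedSectionVars false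

namespace Cfsg.Agent.R2.F4M

open Cfsg Cfsg.Lie Module Matrix
open Cfsg.Agent.ChevalleyStructure.E6Min.Basic
open Cfsg.Agent.H952.F4 Cfsg.Agent.H952.F4.Jord
open Cfsg.Agent.H952.F4.FixV (W0 mem_W0 finrank_W0 u0_ne_zero)
open Cfsg.Agent.R2.H9.E6
open Cfsg.Agent.GpExc.Field (emb)

universe u v w

section frame

variable {F : Type u} [Field F]

/-- a frame -/
structure Frm (e1 e2 e3 : I27 → F) : Prop where
  s1 : sh e1 = 0
  s2 : sh e2 = 0
  s3 : sh e3 = 0
  c12 : cr e1 e2 = e3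
  c23 : cr e2 e3 = e1
  c31 : cr e3 e1 = e2
  su : e1 + e2 + e3 = u0 F
  t1 : tr1 e1 = 1
  t2 : tr1 e2 = 1
  t3 : tr1 e3 = 1

/-- the vectors with `e × v = v` -/
def AA (e : I27 → F) : Submodule F (I27 → F) where
  carrier := {v | cr e v = v}
  add_mem' := by
    intro x y hx hy
    show cr e (x + y) = x + y
    rw [cr_add_right, hx, hy]
  zero_mem' := by
    show cr e 0 = 0
    have := cr_smul_right (0 : F) e (0 : I27 → F)
    rwa [zero_smul, zero_smul] at this
  smul_mem' := by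
    intro c x hx
    show cr e (c • x) = c • x
    rw [cr_smul_right, hx]

theorem mem_AA {e v : I27 → F} : v ∈ AA e ↔ cr e v = v := Iff.rfl

theorem AA_map (g : ↥(chevF4.group F)) (e : I27 → F) : AA (Jr F g e) = (AA e).map (Jr F g) := by
  ext v
  rw [Submodule.mem_map]
  constructor
  · intro hv
    refine ⟨Jr F g⁻¹ v, ?_, Jr_apply_inv g v⟩
    rw [mem_AA] at hv ⊢
    apply Jr_inj g
    rw [← Jr_cr, Jr_apply_inv, hv]
  · rintro ⟨x, hx, rfl⟩
    rw [mem_AA] at hx ⊢
    rw [Jr_cr, hx]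

theorem AA_finrank (g : ↥(chevF4.group F)) (e : I27 → F) : finrank F ↥(AA (Jr F g e)) = finrank F ↥(AA e) := by
  rw [AA_map]
  exact (Submodule.equivMapOfInjective (Jr F g) (Jr_inj g) (AA e)).symm.finrank_eq

theorem cr_z (v : I27 → F) : cr (0 : I27 → F) v = 0 := by
  have := cr_smul_left (0 : F) (0 : I27 → F) v
  rwa [zero_smul, zero_smul] at this

theorem tf_z (v : I27 → F) : tf (0 : I27 → F) v = 0 := by
  have := tf_smul_left (0 : F) (0 : I27 → F) v
  rwa [zero_smul, zero_mul] at this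

variable {e1 e2 e3 : I27 → F}

theorem Frm.rot (f : Frm e1 e2 e3) : Frm e2 e3 e1 :=
  ⟨f.s2, f.s3, f.s1, f.c23, f.c31, f.c12, by rw [← f.su]; abel, f.t2, f.t3, f.t1⟩

theorem Frm.ne (f : Frm e1 e2 e3) : e1 ≠ 0 := by
  rintro rfl
  have h := f.t1
  have h1 := tr1_smul (0 : F) (0 : I27 → F)
  rw [zero_smul, zero_mul] at h1
  rw [h1] at h
  exact zero_ne_one h

theorem Frm.c11 (f : Frm e1 e2 e3) : cr e1 e1 = 0 := by rw [cr_self, f.s1, smul_zero]

/-- `e3 × (e1 × v) ∈ F e1` -/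
theorem Frm.crcr (f : Frm e1 e2 e3) (v : I27 → F) : cr e3 (cr e1 v) = tf e1 (cr e2 v) • e1 := by
  have h := cr_cr e1 e2 v
  rw [f.s1, cr_z, tf_z, tf_z, zero_smul, zero_smul, add_zero, zero_add, zero_add, f.c12] at h
  exact h

/-- `e2 × (e1 × v) ∈ F e1` -/
theorem Frm.crcr' (f : Frm e1 e2 e3) (v : I27 → F) : cr e2 (cr e1 v) = tf e1 (cr e3 v) • e1 := by
  have h := cr_cr e1 e3 v
  rw [f.s1, cr_z, tf_z, tf_z, zero_smul, zero_smul, add_zero, zero_add, zero_add, cr_comm e1 e3, f.c31] at h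
  exact h

variable [CharP F 2]

theorem two_z : (2 : F) = 0 := by exact_mod_cast CharP.cast_eq_zero F 2

theorem neg_self (v : I27 → F) : -v = v := by
  rw [neg_eq_iff_add_eq_zero, ← two_smul F v, two_z, zero_smul]

theorem Frm.inf (f : Frm e1 e2 e3) {v : I27 → F} (h1 : v ∈ AA e1) (h2 : v ∈ AA e2) : v = 0 := by
  rw [mem_AA] at h1 h2
  have k1 := f.crcr v
  rw [h1, h2] at k1
  have k2 : cr (u0 F) v = tr1 v • u0 F - v := cr_u0 v
  rw [← f.su, cr_add_left, cr_add_left, h1, h2, k1, f.su, ← two_smul F v, two_z, zero_smul, zero_add] at k2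
  -- `v = t u0 - T e1`
  have k3 : v = tr1 v • u0 F - tf e1 v • e1 := by
    rw [k2]
    abel
  have k4 : cr e1 v = tr1 v • (u0 F - e1) := by
    conv_lhs => rw [k3]
    rw [sub_eq_add_neg, ← neg_one_smul F, cr_add_right, cr_smul_right, cr_smul_right, cr_smul_right, f.c11, cr_comm,
      cr_u0, f.t1]
    module
  rw [h1] at k4
  have k5 : cr e2 v = tr1 v • e1 := by
    conv_lhs => rw [k4]
    rw [cr_smul_right, ← f.su, show e1 + e2 + e3 - e1 = e2 + e3 by abel, cr_add_right, f.rot.c11, f.c23, zero_add]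
  rw [h2] at k5
  have k6 : tr1 v • u0 F = 0 := by
    have k7 : tr1 v • u0 F = tr1 v • (u0 F - e1) + tr1 v • e1 := by module
    rw [k7, ← k4, ← k5, ← two_smul F v, two_z, zero_smul]
  rw [k5, (smul_eq_zero.1 k6).resolve_right u0_ne_zero, zero_smul]

theorem Frm.inf' (f : Frm e1 e2 e3) {v : I27 → F} (h1 : v ∈ AA e2) (h2 : v ∈ AA e3) : v = 0 := f.rot.inf h1 h2

theorem Frm.rel (f : Frm e1 e2 e3) {v1 v2 v3 : I27 → F} (h1 : v1 ∈ AA e1) (h2 : v2 ∈ AA e2) (h3 : v3 ∈ AA e3)
    (h : v1 + v2 + v3 = 0) : ∃ τ : F, v1 = τ • (e2 + e3) := by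
  rw [mem_AA] at h1 h2 h3
  have k2 : cr e1 v2 = tf e2 (cr e3 v2) • e2 := by
    have := f.rot.crcr v2
    rwa [h2] at this
  have k3 : cr e1 v3 = tf e3 (cr e2 v3) • e3 := by
    have := f.rot.rot.crcr' v3
    rwa [h3] at this
  set a := tf e2 (cr e3 v2)
  set b := tf e3 (cr e2 v3)
  have k4 : v1 + a • e2 + b • e3 = 0 := by
    have k5 : cr e1 (v1 + v2 + v3) = 0 := by
      rw [h]
      exact mem_AA.1 (AA e1).zero_mem
    rwa [cr_add_right, cr_add_right, h1, k2, k3] at k5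
  have k5 : v1 = a • e2 + b • e3 := by
    have : v1 = -(a • e2 + b • e3) := by
      rw [eq_neg_iff_add_eq_zero, ← k4]
      abel
    rw [this, neg_self]
  have k6 : cr e1 v1 = a • e3 + b • e2 := by
    rw [k5, cr_add_right, cr_smul_right, cr_smul_right, f.c12, cr_comm e1 e3, f.c31]
  rw [h1, k5] at k6
  have k7 : (a - b) • (e2 - e3) = 0 := by
    have : (a - b) • (e2 - e3) = (a • e2 + b • e3) - (a • e3 + b • e2) := by module
    rw [this, k6, sub_self]
  have k8 : e2 - e3 ≠ 0 := by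
    intro h0
    have h4 := f.c23
    rw [← sub_eq_zero.1 h0, f.rot.c11] at h4
    exact f.ne h4.symm
  have k9 : a = b := sub_eq_zero.1 ((smul_eq_zero.1 k7).resolve_right k8)
  exact ⟨a, by rw [k5, ← k9, smul_add]⟩

/-- **the dimensions** -/
theorem Frm.le (f : Frm e1 e2 e3) : finrank F ↥(AA e1) + finrank F ↥(AA e2) + finrank F ↥(AA e3) ≤ 28 := by
  let Φ : (↥(AA e1) × ↥(AA e2) × ↥(AA e3)) →ₗ[F] (I27 → F) :=
    LinearMap.coprod (AA e1).subtype (LinearMap.coprod (AA e2).subtype (AA e3).subtype)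
  have hΦ : ∀ x, Φ x = (x.1 : I27 → F) + ((x.2.1 : I27 → F) + (x.2.2 : I27 → F)) := fun x => rfl
  have h1 := LinearMap.finrank_range_add_finrank_ker Φ
  rw [Module.finrank_prod, Module.finrank_prod] at h1
  have h2 : finrank F ↥(LinearMap.range Φ) ≤ 27 := by
    refine (Submodule.finrank_le _).trans ?_
    rw [finrank_fintype_fun_eq_card]
    exact le_of_eq (by decide)
  have h3 : finrank F ↥(LinearMap.ker Φ) ≤ 1 := by
    let ψ : ↥(LinearMap.ker Φ) →ₗ[F] (I27 → F) :=
      (AA e1).subtype.comp ((LinearMap.fst F _ _).comp (LinearMap.ker Φ).subtype)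
    have hψ : ∀ x : ↥(LinearMap.ker Φ), ψ x = (x.1.1 : I27 → F) := fun x => rfl
    have hker : ∀ x : ↥(LinearMap.ker Φ), (x.1.1 : I27 → F) + (x.1.2.1 : I27 → F) + (x.1.2.2 : I27 → F) = 0 := by
      intro x
      have := LinearMap.mem_ker.1 x.2
      rw [hΦ, ← add_assoc] at this
      exact this
    have hinj : Function.Injective ψ := by
      rw [injective_iff_map_eq_zero]
      intro x hx
      rw [hψ] at hx
      have h4 := hker x
      rw [hx, zero_add] at h4
      have h5 : (x.1.2.1 : I27 → F) = x.1.2.2 := by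
        rw [eq_neg_iff_add_eq_zero.2 h4, neg_self]
      have h6 : (x.1.2.1 : I27 → F) = 0 := f.inf' x.1.2.1.2 (by rw [h5]; exact x.1.2.2.2)
      have h7 : (x.1.2.2 : I27 → F) = 0 := by rw [← h5, h6]
      apply Subtype.ext
      exact Prod.ext (Subtype.ext hx) (Prod.ext (Subtype.ext h6) (Subtype.ext h7))
    have hle : LinearMap.range ψ ≤ Submodule.span F {e2 + e3} := by
      rintro _ ⟨x, rfl⟩
      obtain ⟨τ, hτ⟩ := f.rel x.1.1.2 x.1.2.1.2 x.1.2.2.2 (hker x)
      rw [hψ, hτ]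
      exact Submodule.smul_mem _ _ (Submodule.mem_span_singleton_self _)
    rw [← LinearMap.finrank_range_of_inj hinj]
    refine (Submodule.finrank_mono hle).trans ?_
    have := finrank_span_le_card (R := F) ({e2 + e3} : Set (I27 → F))
    rwa [Set.toFinset_singleton, Finset.card_singleton] at this
  omega

/-- `e1 × v` is fixed -/
theorem Frm.fix (f : Frm e1 e2 e3) {g : ↥(chevF4.group F)} (g2 : Jr F g e2 = e2) (h1 : ∀ v ∈ AA e1, Jr F g v = v)
    (v : I27 → F) : Jr F g (cr e1 v) = cr e1 v := by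
  have k1 := F4P.cr_cr_self e1 v
  have tz : tr1 (0 : I27 → F) = 0 := by
    have := tr1_smul (0 : F) (0 : I27 → F)
    rwa [zero_smul, zero_mul] at this
  rw [f.s1, cr_comm v 0, cr_z, tf_z, tz, f.t1, mul_zero, add_zero, add_zero, sub_zero, zero_smul, sub_zero, one_mul,
    smul_zero, sub_zero, one_smul] at k1
  set y := cr e1 v with hy
  have k2 : y - tr1 y • e2 ∈ AA e1 := by
    rw [mem_AA, sub_eq_add_neg, ← neg_one_smul F, cr_add_right, cr_smul_right, cr_smul_right, f.c12, k1, ← f.su]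
    have k3 : tr1 y • (e1 + e2 + e3) - tr1 y • e1 - y + (-1 : F) • tr1 y • e3 = tr1 y • e2 - y := by module
    rw [k3]
    have k4 : tr1 y • e2 - y = -(y + (-1 : F) • tr1 y • e2) := by module
    rw [k4, neg_self]
  have k3 := h1 _ k2
  rw [map_sub, map_smul, g2] at k3
  exact sub_left_injective k3

/-- **automorphisms fixing everything** -/
theorem Frm.eq_one (f : Frm e1 e2 e3) {g : ↥(chevF4.group F)} (g1 : Jr F g e1 = e1) (g2 : Jr F g e2 = e2)
    (g3 : Jr F g e3 = e3) (h1 : ∀ v ∈ AA e1, Jr F g v = v) (h2 : ∀ v ∈ AA e2, Jr F g v = v)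
    (h3 : ∀ v ∈ AA e3, Jr F g v = v) : g = 1 := by
  refine Jr_faithful fun v => ?_
  rw [Jr_one]
  have k1 : cr (u0 F) v = tr1 v • u0 F - v := cr_u0 v
  have k2 : v = tr1 v • u0 F - cr (u0 F) v := by
    rw [k1]
    abel
  have k3 : Jr F g (cr (u0 F) v) = cr (u0 F) v := by
    rw [← f.su, cr_add_left, cr_add_left, map_add, map_add, f.fix g2 h1, f.rot.fix g3 h2, f.rot.rot.fix g1 h3]
  rw [k2, map_sub, map_smul, Jr_u0, k3]

end frame

section two

variable {F : Type u} [Field F] [Fintype F]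

/-- an element of order 13 acts trivially on a small space over the field with two elements -/
theorem fix13 (h2 : Fintype.card F = 2) {g : ↥(chevF4.group F)} (hg : orderOf g = 13) {A : Submodule F (I27 → F)}
    (hA : finrank F ↥A ≤ 11) (hst : ∀ v ∈ A, Jr F g v ∈ A) : ∀ v ∈ A, Jr F g v = v := by
  classical
  have h13 : Fact (Nat.Prime 13) := ⟨by norm_num⟩
  have hgA : g ∈ StU A := mem_StU_of hst
  let C := Subgroup.zpowers g
  have hC : C ≤ StU A := by
    rw [Subgroup.zpowers_le]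
    exact hgA
  let _ : MulAction ↥C ↥A :=
    { smul := fun z v => ⟨Jr F z v, (hC z.2 _).2 v.2⟩
      one_smul := fun v => Subtype.ext (Jr_one _)
      mul_smul := fun y z v => Subtype.ext (Jr_mul _ _ _) }
  have hsm : ∀ (z : ↥C) (v : ↥A), ((z • v : ↥A) : I27 → F) = Jr F z v := fun _ _ => rfl
  have hP : IsPGroup 13 ↥C := IsPGroup.of_card (n := 1) (by rw [Nat.card_zpowers, hg, pow_one])
  let A' : Submodule F (I27 → F) := A ⊓ LinearMap.ker (Jr F g - LinearMap.id)
  have hA' : ∀ v, v ∈ A' ↔ v ∈ A ∧ Jr F g v = v := fun v => by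
    rw [Submodule.mem_inf, LinearMap.mem_ker, LinearMap.sub_apply, LinearMap.id_apply, sub_eq_zero]
  have hmod := hP.card_modEq_card_fixedPoints ↥A
  have hfix : Nat.card (MulAction.fixedPoints ↥C ↥A) = Nat.card ↥A' := by
    refine Nat.card_congr
      { toFun := fun v => ⟨(v.1 : I27 → F), (hA' _).2 ⟨v.1.2, ?_⟩⟩
        invFun := fun v => ⟨⟨v.1, ((hA' _).1 v.2).1⟩, ?_⟩
        left_inv := fun v => rfl
        right_inv := fun v => rfl }
    · have h1 := v.2 ⟨g, Subgroup.mem_zpowers g⟩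
      exact congrArg Subtype.val h1
    · rintro ⟨z, hz⟩
      apply Subtype.ext
      rw [hsm]
      obtain ⟨n, rfl⟩ := Subgroup.mem_zpowers_iff.1 hz
      have h2 : g ^ n ∈ FxU (Submodule.span F {(v.1 : I27 → F)}) := by
        refine (FxU (Submodule.span F {(v.1 : I27 → F)})).zpow_mem ?_ n
        intro x hx
        obtain ⟨c, rfl⟩ := Submodule.mem_span_singleton.1 hx
        rw [map_smul, ((hA' _).1 v.2).2]
      exact h2 _ (Submodule.mem_span_singleton_self _)
  rw [hfix, Module.natCard_eq_pow_finrank (K := F) (V := ↥A), Module.natCard_eq_pow_finrank (K := F) (V := ↥A'),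
    Nat.card_eq_fintype_card, h2] at hmod
  have hle : finrank F ↥A' ≤ finrank F ↥A := Submodule.finrank_mono inf_le_left
  have key : ∀ m ≤ 11, ∀ j ≤ m, 2 ^ m % 13 = 2 ^ j % 13 → j = m := by decide
  have h3 := key _ hA _ hle hmod
  have h4 : A' = A := Submodule.eq_of_le_of_finrank_eq inf_le_left h3
  intro v hv
  rw [← h4] at hv
  exact ((hA' v).1 hv).2

/-- the stabilizer of a vector -/
noncomputable def StV (e : I27 → F) : Subgroup ↥(chevF4.group F) := FxU (Submodule.span F {e})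

omit [Fintype F] in
theorem mem_StV {e : I27 → F} {g : ↥(chevF4.group F)} : g ∈ StV e ↔ Jr F g e = e := by
  constructor
  · intro h
    exact h _ (Submodule.mem_span_singleton_self _)
  · intro h x hx
    obtain ⟨c, rfl⟩ := Submodule.mem_span_singleton.1 hx
    rw [map_smul, h]

/-- counting frames -/
theorem Frm.card_le {e1 e2 e3 : I27 → F} (f : Frm e1 e2 e3) [CharP F 2] (H : Subgroup ↥(chevF4.group F))
    (hH : ∀ g, Jr F g e1 = e1 → Jr F g e2 = e2 → g ∈ H) :
    Nat.card ↥(chevF4.group F) ≤ Nat.card ↥H * Fintype.card F ^ (27 + finrank F ↥(AA e1)) := by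
  classical
  have h1 := card_le_of_fiber (StV e1) (fun g => Jr F g e1) Set.univ (fun _ => trivial) (fun g g' hgg => by
    rw [mem_StV, Jr_mul, ← (show Jr F g e1 = Jr F g' e1 from hgg), Jr_inv_apply])
  rw [Nat.card_congr (Equiv.Set.univ _), Nat.card_fun, Nat.card_eq_fintype_card (α := F),
    Nat.card_eq_fintype_card (α := I27), show Fintype.card I27 = 27 by decide] at h1
  have h2 := card_le_of_fiber (H.subgroupOf (StV e1)) (fun g : ↥(StV e1) => Jr F g e2 - e2) (AA e1 : Set (I27 → F))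
    (fun g => by
      show cr e1 (Jr F g e2 - e2) = Jr F g e2 - e2
      have hg := mem_StV.1 g.2
      have k1 : cr (Jr F g e1) (Jr F g e2) = Jr F g e3 := by rw [Jr_cr, f.c12]
      rw [hg] at k1
      rw [sub_eq_add_neg, ← neg_one_smul F, cr_add_right, cr_smul_right, k1, f.c12]
      -- `g e3 - e3 = -(g e2 - e2)`
      have k2 : Jr F g (e1 + e2 + e3) = e1 + e2 + e3 := by rw [f.su, Jr_u0]
      rw [map_add, map_add, hg] at k2
      have k3 : Jr F g e3 + (-1 : F) • e3 = -(Jr F g e2 + (-1 : F) • e2) := by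
        linear_combination (norm := module) k2
      rw [k3, neg_self]) (fun g g' hgg => by
      rw [Subgroup.mem_subgroupOf]
      have hg := mem_StV.1 (g⁻¹ * g').2
      refine hH _ hg ?_
      have k1 : Jr F g e2 = Jr F g' e2 := sub_left_injective hgg
      rw [Subgroup.coe_mul, Subgroup.coe_inv, Jr_mul, ← k1, Jr_inv_apply])
  have h3 : Nat.card ↥(H.subgroupOf (StV e1)) ≤ Nat.card ↥H := by
    refine Nat.card_le_card_of_injective (fun z => (⟨z.1.1, Subgroup.mem_subgroupOf.1 z.2⟩ : ↥H)) ?_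
    intro y z hyz
    exact Subtype.ext (Subtype.ext (congrArg (fun z : ↥H => (z : ↥(chevF4.group F))) hyz))
  have h4 : Nat.card ↥(AA e1) = Fintype.card F ^ finrank F ↥(AA e1) := by
    rw [Module.natCard_eq_pow_finrank (K := F), Nat.card_eq_fintype_card]
  have h5 : Nat.card (AA e1 : Set (I27 → F)) = Fintype.card F ^ finrank F ↥(AA e1) := h4
  rw [h5] at h2
  calc Nat.card ↥(chevF4.group F) ≤ Nat.card ↥(StV e1) * Fintype.card F ^ 27 := h1
    _ ≤ (Nat.card ↥(H.subgroupOf (StV e1)) * Fintype.card F ^ finrank F ↥(AA e1)) * Fintype.card F ^ 27 :=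
        Nat.mul_le_mul_right _ h2
    _ ≤ (Nat.card ↥H * Fintype.card F ^ finrank F ↥(AA e1)) * Fintype.card F ^ 27 :=
        Nat.mul_le_mul_right _ (Nat.mul_le_mul_right _ h3)
    _ = _ := by ring

variable {E : Type u} [Field E] [Fintype E] {i : F →+* E} {s : E →+* E}
variable {K : Type v} [Field K] [Fintype K] {p a b : ℕ}
variable {H : Subgroup ↥(chevF4.group F)} {φ : ProjectiveSpecialLinearGroup (Fin 2) K →* ↥(chevF4.group F)}
variable {w : I27 → E} {χ : ↥(chevF4.group F) → E}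

/-- `g ^ a ∈ L`, `p = 2` -/
theorem Cfg.pow_a (h : Cfg p a b H φ) (hp2 : p = 2) {g : ↥(chevF4.group F)} (hg : g ∈ H) : ∃ t, g ^ a = φ t := by
  classical
  have hp : Fact p.Prime := ⟨h.prime⟩
  have := h.charK
  obtain ⟨τ, hτ, -, hconj⟩ := h.max.act
  obtain ⟨m, hm⟩ := R2.H8.NoFix.Aut.exists_pow p (R2.H8.NoFix.Aut.fa K (τ ⟨g, hg⟩))
  have h1 : R2.H8.NoFix.Aut.fa K (τ ⟨g, hg⟩) ^ a = 1 := by
    apply RingEquiv.ext
    intro x
    rw [h.frob_pow hm, mul_comm, h.pow_mul_a]
    rfl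
  obtain ⟨t, ht⟩ := R2.H8.NoFix.Aut.pow_inner h1 (Or.inr (by rw [← hp2]; infer_instance))
  refine ⟨t, ?_⟩
  have h3 : τ (⟨g, hg⟩ ^ a) = τ ⟨φ t, h.mem t⟩ := by rw [map_pow, ht, hconj]
  exact congrArg Subtype.val (hτ h3)

end two

end Cfsg.Agent.R2.F4M
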