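import Cfsg.Agent.R2.F4M.Base

/-!
# S5931: the `F₄(F)`-stable subspaces of `J`, every field (helper21)

`irr` : a stable subspace is contained in `F·1` or contains the space of trace zero vectors.
-/

set_option autoImplicit false

namespace Cfsg.Agent.R2.F4M.Irr

open Cfsg Cfsg.Lie Module
open Cfsg.Agent.ChevalleyStructure Cfsg.Agent.ChevalleyStructure.Elts
open Cfsg.Agent.ChevalleyStructure.E6Min.Tables Cfsg.Agent.ChevalleyStructure.E6Min.Basic
open Cfsg.Agent.H952.F4 Cfsg.Agent.H952.F4.Jord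
open Cfsg.Agent.H952.F4.FixV (yM_single yM_pair zw eq_smul_u0 W0 mem_W0 tr1_eq)
open scoped Matrix

universe u

/-- the coordinate `x` of `Nm a *ᵥ e_m` -/
def cM (a m x : ℕ) : ℤ := if srN a x = m then sgN a x else 0

/-- the coordinate `x` of `(yM r 1 - 1) *ᵥ e_m` -/
def stp (r m x : ℕ) : ℤ :=
  match dat.getD r [] with
  | [(a, e)] => e * cM a m x
  | [(a, e), (b, f)] => e * cM a m x + f * cM b m x + e * f * (sgN a x * cM b m (srN a x))
  | _ => 0

/-- the shape of `dat` -/
def shp (r : ℕ) : Bool :=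
  match dat.getD r [] with
  | [(a, _)] => Nat.blt a 72
  | [(a, _), (b, _)] => Nat.blt a 72 && Nat.blt b 72
  | _ => false

theorem shp_all : allLt 48 shp = true := by decide +kernel

/-- isolation of a coordinate by two long roots -/
def iso : List (ℕ × ℕ × ℕ) :=
  [(0, 0, 0), (2, 43, 3), (0, 17, 6), (4, 45, 1), (0, 0, 0), (0, 22, 7), (30, 47, 2), (25, 47, 5), (0, 0, 0),
   (15, 43, 18), (1, 26, 21), (0, 25, 24), (15, 45, 19), (1, 31, 22), (0, 30, 25), (41, 47, 20), (6, 47, 23),
   (5, 46, 26), (4, 32, 9), (2, 32, 12), (0, 6, 15), (21, 46, 10), (16, 46, 13), (0, 41, 16), (22, 47, 11),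
   (17, 47, 14), (1, 42, 17)]

def chkI (c : ℕ) : Bool :=
  match dat.getD (iso.getD c (0, 0, 0)).1 [], dat.getD (iso.getD c (0, 0, 0)).2.1 [] with
  | [(a, e)], [(b, f)] => Nat.blt (iso.getD c (0, 0, 0)).1 48 && Nat.blt (iso.getD c (0, 0, 0)).2.1 48 &&
      (e == 1 || e == -1) && (f == 1 || f == -1) && Nat.blt (iso.getD c (0, 0, 0)).2.2 27 &&
      ! zw (iso.getD c (0, 0, 0)).2.2 && Nat.blt a 72 &&
      (srN b (srN a (iso.getD c (0, 0, 0)).2.2) == c) &&
      (sgN a (iso.getD c (0, 0, 0)).2.2 * sgN b (srN a (iso.getD c (0, 0, 0)).2.2) == 1 ||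
        sgN a (iso.getD c (0, 0, 0)).2.2 * sgN b (srN a (iso.getD c (0, 0, 0)).2.2) == -1) &&
      allLt 27 fun x => (x == (iso.getD c (0, 0, 0)).2.2) || (sgN a x * sgN b (srN a x) == 0)
  | _, _ => false

theorem chkI_all : allLt 27 (fun c => zw c || chkI c) = true := by decide +kernel

/-- `(yM r 1 - 1) e_m = ± e_n` -/
def chkS (r m n : ℕ) : Bool :=
  Nat.blt r 48 && Nat.blt m 27 && Nat.blt n 27 && (stp r m n == 1 || stp r m n == -1) &&
    allLt 27 fun x => (x == n) || (stp r m x == 0)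

def up : List (ℕ × ℕ × ℕ) :=
  [(0, 0, 0), (0, 1, 0), (39, 2, 0), (2, 15, 43), (0, 0, 0), (13, 9, 43), (2, 15, 33), (7, 7, 0), (0, 0, 0),
   (13, 9, 0), (35, 10, 0), (36, 11, 0), (2, 15, 39), (9, 25, 43), (10, 22, 43), (2, 15, 0), (16, 16, 0), (17, 17, 0),
   (7, 7, 43), (33, 19, 0), (43, 20, 0), (2, 15, 36), (10, 22, 0), (26, 23, 0), (2, 15, 35), (9, 25, 0), (25, 26, 0)]

def down : List (ℕ × ℕ × ℕ) :=
  [(0, 0, 0), (0, 1, 0), (8, 1, 0), (4, 15, 45), (0, 0, 0), (27, 2, 8), (27, 7, 40), (40, 1, 0), (0, 0, 0),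
   (34, 1, 0), (12, 1, 0), (11, 1, 0), (45, 2, 8), (31, 2, 8), (30, 2, 8), (45, 1, 0), (31, 1, 0), (30, 1, 0),
   (4, 7, 40), (14, 1, 0), (4, 1, 0), (21, 7, 40), (37, 1, 0), (21, 1, 0), (22, 7, 40), (38, 1, 0), (22, 1, 0)]

def chkUp (c : ℕ) : Bool :=
  (c == 1) || (chkS (up.getD c (0, 0, 0)).1 1 (up.getD c (0, 0, 0)).2.1 &&
    ((up.getD c (0, 0, 0)).2.1 == c || chkS (up.getD c (0, 0, 0)).2.2 (up.getD c (0, 0, 0)).2.1 c))

def chkDown (c : ℕ) : Bool :=
  (c == 1) || (chkS (down.getD c (0, 0, 0)).1 c (down.getD c (0, 0, 0)).2.1 &&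
    ((down.getD c (0, 0, 0)).2.1 == 1 || chkS (down.getD c (0, 0, 0)).2.2 (down.getD c (0, 0, 0)).2.1 1))

theorem conn_all : allLt 27 (fun c => zw c || (chkUp c && chkDown c)) = true := by decide +kernel

variable {F : Type u} [Field F]

theorem single_dec {m : ℕ} (hm : m < 27) (x : I27) :
    (Pi.single (dec m) (1 : F) : I27 → F) x = ((if code x = m then (1 : ℤ) else 0 : ℤ) : F) := by
  by_cases h : code x = m
  · rw [if_pos h, ← h, dec_code, Pi.single_eq_same, Int.cast_one]
  · have h1 : x ≠ dec m := by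
      rintro rfl
      exact h (code_dec hm)
    rw [if_neg h, Pi.single_eq_of_ne h1, Int.cast_zero]

theorem stp_spec {r m : ℕ} (hr : r < 48) (hm : m < 27) (x : I27) :
    (yM r (1 : F) *ᵥ (Pi.single (dec m) (1 : F) : I27 → F)) x - (Pi.single (dec m) (1 : F) : I27 → F) x =
      ((stp r m (code x) : ℤ) : F) := by
  have h := allLt_spec shp_all r hr
  unfold shp at h
  unfold stp
  split at h
  · rename_i a e he
    have ha : a < 72 := by simpa [Nat.blt_eq] using h
    rw [yM_single he, zM_mulVec, single_dec hm, single_dec hm, code_sr ha]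
    unfold cM sg
    split_ifs <;> push_cast <;> ring
  · rename_i a e b f he
    have hab : a < 72 ∧ b < 72 := by simpa [Nat.blt_eq] using h
    rw [yM_pair he, ← Matrix.mulVec_mulVec, zM_mulVec, zM_mulVec, zM_mulVec, single_dec hm, single_dec hm,
      single_dec hm, single_dec hm, code_sr hab.1, code_sr hab.2, code_sr hab.2, code_sr hab.1]
    unfold cM sg
    rw [code_sr hab.1]
    push_cast
    split_ifs <;> ring
  · exact absurd h (by decide)

section

variable {W : Submodule F (I27 → F)} (hW : ∀ g, ∀ w ∈ W, Jr F g w ∈ W)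
include hW

theorem yM_mem {r : ℕ} (hr : r < 48) {w : I27 → F} (hw : w ∈ W) : yM r (1 : F) *ᵥ w ∈ W := by
  rw [← Jr_xg ⟨r, hr⟩ 1 w]
  exact hW _ _ hw

theorem step {r m n : ℕ} (h : chkS r m n = true) (hm : (Pi.single (dec m) 1 : I27 → F) ∈ W) :
    (Pi.single (dec n) 1 : I27 → F) ∈ W := by
  unfold chkS at h
  simp only [Bool.and_eq_true, Bool.or_eq_true, Nat.blt_eq, beq_iff_eq] at h
  obtain ⟨⟨⟨⟨hr, hm27⟩, hn⟩, h1⟩, h2⟩ := h
  have h3 := W.sub_mem (yM_mem hW hr hm) hm
  have h4 : (yM r (1 : F) *ᵥ (Pi.single (dec m) 1 : I27 → F)) - (Pi.single (dec m) 1 : I27 → F) =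
      ((stp r m n : ℤ) : F) • (Pi.single (dec n) 1 : I27 → F) := by
    funext x
    rw [Pi.sub_apply, stp_spec hr hm27, Pi.smul_apply, single_dec hn, smul_eq_mul]
    by_cases hx : code x = n
    · rw [if_pos hx, hx, Int.cast_one, mul_one]
    · have h5 := allLt_spec h2 _ (code_lt x)
      simp only [Bool.or_eq_true, beq_iff_eq] at h5
      rw [if_neg hx, h5.resolve_left hx, Int.cast_zero, mul_zero]
  rw [h4] at h3
  rcases h1 with h1 | h1
  · rw [h1, Int.cast_one, one_smul] at h3
    exact h3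
  · rw [h1, Int.cast_neg, Int.cast_one, neg_smul, one_smul] at h3
    simpa using W.neg_mem h3

theorem single_mem {c : ℕ} (hc : c < 27) (hz : zw c = false) (h : (Pi.single (dec 1) 1 : I27 → F) ∈ W) :
    (Pi.single (dec c) 1 : I27 → F) ∈ W := by
  have h1 := allLt_spec conn_all c hc
  simp only [hz, Bool.false_or, Bool.and_eq_true, chkUp, Bool.or_eq_true, beq_iff_eq] at h1
  obtain ⟨h1 | ⟨h1, h2 | h2⟩, -⟩ := h1
  · rw [h1]; exact h
  · have := step hW h1 h
    rwa [h2] at this
  · exact step hW h2 (step hW h1 h)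

theorem one_mem {c : ℕ} (hc : c < 27) (hz : zw c = false) (h : (Pi.single (dec c) 1 : I27 → F) ∈ W) :
    (Pi.single (dec 1) 1 : I27 → F) ∈ W := by
  have h1 := allLt_spec conn_all c hc
  simp only [hz, Bool.false_or, Bool.and_eq_true, chkDown, Bool.or_eq_true, beq_iff_eq] at h1
  obtain ⟨-, h1 | ⟨h1, h2 | h2⟩⟩ := h1
  · rw [← h1]; exact h
  · have := step hW h1 h
    rwa [h2] at this
  · exact step hW h2 (step hW h1 h)

theorem Nm_mem {r a : ℕ} {e : ℤ} (hr : r < 48) (he : dat.getD r [] = [(a, e)]) (he1 : e = 1 ∨ e = -1) {w : I27 → F}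
    (hw : w ∈ W) : Nm F a *ᵥ w ∈ W := by
  have h := W.sub_mem (yM_mem hW hr hw) hw
  rw [yM_single he, zM_def, Matrix.add_mulVec, Matrix.one_mulVec, add_sub_cancel_left, Matrix.smul_mulVec] at h
  rcases he1 with rfl | rfl
  · simpa using h
  · simpa using W.neg_mem h

/-- isolation -/
theorem isolate {w : I27 → F} (hw : w ∈ W) {j : I27} (hj : zw (code j) = false) (hwj : w j ≠ 0) :
    (Pi.single (dec 1) 1 : I27 → F) ∈ W := by
  have h1 := allLt_spec chkI_all _ (code_lt j)
  simp only [hj, Bool.false_or] at h1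
  unfold chkI at h1
  split at h1
  · rename_i a e b f he hf
    simp only [Bool.and_eq_true, Bool.or_eq_true, Nat.blt_eq, beq_iff_eq, Bool.not_eq_true'] at h1
    obtain ⟨⟨⟨⟨⟨⟨⟨⟨⟨hr, hq⟩, he1⟩, hf1⟩, hx⟩, hzx⟩, ha⟩, hc⟩, hs⟩, hall⟩ := h1
    set x0 := (iso.getD (code j) (0, 0, 0)).2.2 with hx0
    have h2 := Nm_mem hW hr he he1 (Nm_mem hW hq hf hf1 hw)
    have h3 : Nm F a *ᵥ (Nm F b *ᵥ w) =
        (((sgN a x0 * sgN b (srN a x0) : ℤ) : F) * w j) • (Pi.single (dec x0) 1 : I27 → F) := by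
      funext x
      rw [Nm_mulVec, Nm_mulVec, sg_sr ha, sr_sr ha, Pi.smul_apply, single_dec hx, smul_eq_mul]
      by_cases hxx : code x = x0
      · rw [if_pos hxx]
        unfold sg
        rw [hxx, hc, dec_code]
        push_cast
        ring
      · have h5 := allLt_spec hall _ (code_lt x)
        simp only [Bool.or_eq_true, beq_iff_eq] at h5
        have h6 := h5.resolve_left hxx
        rw [if_neg hxx]
        unfold sg
        have h7 : ((sgN a (code x) : ℤ) : F) * ((sgN b (srN a (code x)) : ℤ) : F) = 0 := by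
          rw [← Int.cast_mul, h6, Int.cast_zero]
        rw [Int.cast_zero, mul_zero, ← mul_assoc, h7, zero_mul]
    rw [h3] at h2
    have h4 : (((sgN a x0 * sgN b (srN a x0) : ℤ) : F) * w j) ≠ 0 := by
      rcases hs with hs | hs <;> rw [hs] <;> simpa using hwj
    have h5 := (W.smul_mem_iff h4).1 h2
    exact one_mem hW hx hzx h5
  · exact absurd h1 (by decide)

end

theorem diag_one : stp 3 20 0 = -1 ∧ stp 3 20 4 = 1 ∧ stp 3 20 15 = -1 ∧
    allLt 27 (fun x => (x == 0) || (x == 4) || (x == 15) || (stp 3 20 x == 0)) = true := by decide +kernel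

theorem diag_two : stp 7 2 0 = -1 ∧ stp 7 2 8 = 1 ∧ stp 7 2 6 = -1 ∧
    allLt 27 (fun x => (x == 0) || (x == 8) || (x == 6) || (stp 7 2 x == 0)) = true := by decide +kernel

/-- **the stable subspaces of `J`** -/
theorem irr {W : Submodule F (I27 → F)} (hW : ∀ g, ∀ w ∈ W, Jr F g w ∈ W) :
    W ≤ Submodule.span F {u0 F} ∨ W0 F ≤ W := by
  rw [or_iff_not_imp_left]
  intro hnot
  have hex : ∃ w ∈ W, ∃ j : I27, zw (code j) = false ∧ w j ≠ 0 := by
    obtain ⟨w, hw, hw1⟩ := Set.not_subset.1 hnot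
    by_contra hcon
    push Not at hcon
    refine hw1 ?_
    have h1 := eq_smul_u0 w fun r hr j hj => by
      rw [hcon _ (yM_mem hW hr hw) j hj, hcon w hw j hj]
    rw [h1]
    exact Submodule.smul_mem _ _ (Submodule.mem_span_singleton_self _)
  obtain ⟨w, hw, j, hj, hwj⟩ := hex
  have h1 := isolate hW hw hj hwj
  have hs : ∀ j : I27, zw (code j) = false → (Pi.single j 1 : I27 → F) ∈ W := by
    intro j hj
    have := single_mem hW (code_lt j) hj h1
    rwa [dec_code] at this
  have hd : ∀ (r m c n : ℕ), r < 48 → m < 27 → zw m = false → c < 27 → c ≠ 0 → n < 27 → n ≠ 0 → n ≠ c → zw n = false →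
      (stp r m 0 = -1 ∧ stp r m c = 1 ∧ stp r m n = -1 ∧
        allLt 27 (fun x => (x == 0) || (x == c) || (x == n) || (stp r m x == 0)) = true) →
      (Pi.single (dec 0) 1 : I27 → F) - Pi.single (dec c) 1 ∈ W := by
    intro r m c n hr hm hmz hc hc0 hn hn0 hnc hz ⟨k1, k2, k3, k4⟩
    have h3 := hs (dec m) (by rw [code_dec hm]; exact hmz)
    have h4 := W.sub_mem h3 (yM_mem hW hr h3)
    have h5 : (Pi.single (dec m) 1 : I27 → F) - (yM r (1 : F) *ᵥ (Pi.single (dec m) 1 : I27 → F)) =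
        (Pi.single (dec 0) 1 : I27 → F) - Pi.single (dec c) 1 + Pi.single (dec n) 1 := by
      funext x
      have h6 := stp_spec (F := F) hr hm x
      simp only [Pi.sub_apply, Pi.add_apply]
      rw [← neg_sub, h6, single_dec (m := 0) (by norm_num), single_dec hc, single_dec hn]
      have h7 := allLt_spec k4 _ (code_lt x)
      simp only [Bool.or_eq_true, beq_iff_eq] at h7
      rcases h7 with ((h7 | h7) | h7) | h7
      · rw [h7, k1, if_pos rfl, if_neg (Ne.symm hc0), if_neg (Ne.symm hn0)]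
        push_cast
        ring
      · rw [h7, k2, if_neg hc0, if_pos rfl, if_neg (Ne.symm hnc)]
        push_cast
        ring
      · rw [h7, k3, if_neg hn0, if_neg hnc, if_pos rfl]
        push_cast
        ring
      · have e1 : code x ≠ 0 := fun e => by rw [e, k1] at h7; exact absurd h7 (by decide)
        have e2 : code x ≠ c := fun e => by rw [e, k2] at h7; exact absurd h7 (by decide)
        have e3 : code x ≠ n := fun e => by rw [e, k3] at h7; exact absurd h7 (by decide)
        rw [h7, if_neg e1, if_neg e2, if_neg e3]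
        push_cast
        ring
    rw [h5] at h4
    have h8 := W.sub_mem h4 (hs (dec n) (by rw [code_dec hn]; exact hz))
    rwa [add_sub_cancel_right] at h8
  have hd1 := hd 3 20 4 15 (by norm_num) (by norm_num) rfl (by norm_num) (by norm_num) (by norm_num) (by norm_num)
    (by norm_num) rfl diag_one
  have hd2 := hd 7 2 8 6 (by norm_num) (by norm_num) rfl (by norm_num) (by norm_num) (by norm_num) (by norm_num)
    (by norm_num) rfl diag_two
  have e0 : dec 0 = (0, 0, 0) := by decide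
  have e4 : dec 4 = (0, 1, 1) := by decide
  have e8 : dec 8 = (0, 2, 2) := by decide
  rw [e0, e4] at hd1
  rw [e0, e8] at hd2
  intro v hv
  rw [mem_W0, tr1_eq] at hv
  have h9 : v = (∑ j ∈ Finset.univ.filter (fun j : I27 => zw (code j) = false), v j • (Pi.single j 1 : I27 → F)) -
      v (0, 1, 1) • ((Pi.single (0, 0, 0) 1 : I27 → F) - Pi.single (0, 1, 1) 1) -
      v (0, 2, 2) • ((Pi.single (0, 0, 0) 1 : I27 → F) - Pi.single (0, 2, 2) 1) := by
    have h10 : ∀ x : I27, (∑ j ∈ Finset.univ.filter (fun j : I27 => zw (code j) = false),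
        v j • (Pi.single j 1 : I27 → F)) x = if zw (code x) = false then v x else 0 := by
      intro x
      rw [Finset.sum_apply]
      by_cases hx : zw (code x) = false
      · rw [if_pos hx, Finset.sum_eq_single_of_mem x (Finset.mem_filter.2 ⟨Finset.mem_univ _, hx⟩)]
        · simp
        · intro y _ hy
          rw [Pi.smul_apply, Pi.single_eq_of_ne (Ne.symm hy), smul_zero]
      · rw [if_neg hx]
        refine Finset.sum_eq_zero fun y hy => ?_
        have hy2 := (Finset.mem_filter.1 hy).2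
        have : x ≠ y := by rintro rfl; exact hx hy2
        rw [Pi.smul_apply, Pi.single_eq_of_ne this, smul_zero]
    funext x
    simp only [Pi.sub_apply, Pi.smul_apply, smul_eq_mul]
    rw [h10 x]
    by_cases hx : zw (code x) = true
    · have hx2 : x = (0, 0, 0) ∨ x = (0, 1, 1) ∨ x = (0, 2, 2) := by
        clear h10 hd hs h1 hnot
        revert hx
        revert x
        decide
      rw [if_neg (by rw [hx]; decide)]
      have n1 : ((0, 0, 0) : I27) ≠ (0, 1, 1) := by decide
      have n2 : ((0, 0, 0) : I27) ≠ (0, 2, 2) := by decide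
      have n3 : ((0, 1, 1) : I27) ≠ (0, 2, 2) := by decide
      rcases hx2 with rfl | rfl | rfl
      · rw [Pi.single_eq_same, Pi.single_eq_of_ne n1, Pi.single_eq_of_ne n2]
        linear_combination hv
      · rw [Pi.single_eq_same, Pi.single_eq_of_ne n1.symm, Pi.single_eq_of_ne n3]
        ring
      · rw [Pi.single_eq_same, Pi.single_eq_of_ne n2.symm, Pi.single_eq_of_ne n3.symm]
        ring
    · rw [Bool.not_eq_true] at hx
      have n1 : x ≠ (0, 0, 0) := by rintro rfl; exact absurd hx (by decide)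
      have n2 : x ≠ (0, 1, 1) := by rintro rfl; exact absurd hx (by decide)
      have n3 : x ≠ (0, 2, 2) := by rintro rfl; exact absurd hx (by decide)
      rw [if_pos hx, Pi.single_eq_of_ne n1, Pi.single_eq_of_ne n2, Pi.single_eq_of_ne n3]
      ring
  rw [h9]
  refine W.sub_mem (W.sub_mem (W.sum_mem fun j hj => W.smul_mem _ (hs j (Finset.mem_filter.1 hj).2)) ?_) ?_
  · exact W.smul_mem _ hd1
  · exact W.smul_mem _ hd2

end Cfsg.Agent.R2.F4M.Irr
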