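import Cfsg.Agent.R2.F4M.Cfg
import Cfsg.Agent.R2.F4M.Irr

/-!
# S5931: the consequences of the maximality of `H` for the subspaces of `J` (helper21)

* `Hst H U` : `U` is stable under `H`;  `Pr U` : `U` is neither contained in `F·1` nor contains `J₀`;
* `Cfg.gp` : an element of `G` which preserves a stable `U` with `Pr U` belongs to `H`;
* `Cfg.kc` : if `L` acts non-trivially on `U`, the pointwise stabilizer of `U` in `G` is trivial;
* `Cfg.kc_p` : no nontrivial `p`-subgroup of `H` is normalized by `L`;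
* `Cfg.count` : counting; `Cfg.fv` : no stable 2-dimensional subspace contains the unit.
-/

set_option autoImplicit false

namespace Cfsg.Agent.R2.F4M

open Cfsg Cfsg.Lie Module Matrix
open Cfsg.Agent.ChevalleyStructure.E6Min.Basic
open Cfsg.Agent.H952.F4 Cfsg.Agent.H952.F4.Jord
open Cfsg.Agent.H952.F4.FixV (W0 mem_W0 finrank_W0 u0_ne_zero)
open Cfsg.Agent.R2.H9.E6

universe u v w

/-- counting by the fibres of a map -/
theorem card_le_of_fiber {G : Type u} [Group G] [Finite G] (H : Subgroup G) {α : Type v} (o : G → α) (S : Set α)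
    [Finite S] (hS : ∀ g, o g ∈ S) (hH : ∀ g g', o g = o g' → g⁻¹ * g' ∈ H) :
    Nat.card G ≤ Nat.card ↥H * Nat.card S := by
  classical
  have hex : ∀ s : Set.range o, ∃ g, o g = s := fun s => s.2
  choose r hr using hex
  have h1 : Function.Injective (fun g : G => ((⟨(r ⟨o g, g, rfl⟩)⁻¹ * g, hH _ _ (hr ⟨o g, g, rfl⟩)⟩ : ↥H),
      (⟨o g, hS g⟩ : S))) := by
    intro g g' hgg
    have h2 : o g = o g' := congrArg Subtype.val (congrArg Prod.snd hgg)
    have h3 : (r ⟨o g, g, rfl⟩)⁻¹ * g = (r ⟨o g', g', rfl⟩)⁻¹ * g' := congrArg Subtype.val (congrArg Prod.fst hgg)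
    have h4 : (⟨o g, g, rfl⟩ : Set.range o) = ⟨o g', g', rfl⟩ := Subtype.ext h2
    rw [h4] at h3
    exact mul_left_cancel h3
  have h5 := Nat.card_le_card_of_injective _ h1
  rwa [Nat.card_prod] at h5

variable {F : Type u} [Field F]

/-- stable subspaces -/
def Hst (H : Subgroup ↥(chevF4.group F)) (U : Submodule F (I27 → F)) : Prop := ∀ h ∈ H, ∀ x ∈ U, Jr F h x ∈ U

/-- `U` is neither contained in `F·1` nor contains `J₀` -/
def Pr (U : Submodule F (I27 → F)) : Prop := ¬ U ≤ Submodule.span F {u0 F} ∧ ¬ W0 F ≤ U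

theorem pr_of_finrank {U : Submodule F (I27 → F)} (h2 : 2 ≤ finrank F ↥U) (h26 : finrank F ↥U < 26) : Pr U := by
  refine ⟨fun h => ?_, fun h => ?_⟩
  · have h3 := Submodule.finrank_mono h
    have h4 := finrank_span_le_card (R := F) ({u0 F} : Set (I27 → F))
    rw [Set.toFinset_singleton, Finset.card_singleton] at h4
    omega
  · have h3 := Submodule.finrank_mono h
    rw [finrank_W0] at h3
    omega

/-- the stabilizer -/
noncomputable def StU (U : Submodule F (I27 → F)) : Subgroup ↥(chevF4.group F) where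
  carrier := {g | ∀ x, Jr F g x ∈ U ↔ x ∈ U}
  mul_mem' := by
    intro g h hg hh x
    rw [Jr_mul]
    exact (hg _).trans (hh x)
  one_mem' := by
    intro x
    rw [Jr_one]
  inv_mem' := by
    intro g hg x
    rw [← hg, Jr_apply_inv]

theorem mem_StU {U : Submodule F (I27 → F)} {g : ↥(chevF4.group F)} : g ∈ StU U ↔ ∀ x, Jr F g x ∈ U ↔ x ∈ U := Iff.rfl

/-- the pointwise stabilizer -/
noncomputable def FxU (U : Submodule F (I27 → F)) : Subgroup ↥(chevF4.group F) where
  carrier := {g | ∀ x ∈ U, Jr F g x = x}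
  mul_mem' := by
    intro g h hg hh x hx
    rw [Jr_mul, hh x hx, hg x hx]
  one_mem' := by
    intro x _
    exact Jr_one x
  inv_mem' := by
    intro g hg x hx
    have h1 := Jr_inv_apply g x
    rwa [hg x hx] at h1

theorem mem_FxU {U : Submodule F (I27 → F)} {g : ↥(chevF4.group F)} : g ∈ FxU U ↔ ∀ x ∈ U, Jr F g x = x := Iff.rfl

theorem mem_StU_of {U : Submodule F (I27 → F)} {g : ↥(chevF4.group F)} (hg : ∀ x ∈ U, Jr F g x ∈ U) : g ∈ StU U := by
  have h1 : U.map (Jr F g) = U := by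
    refine Submodule.eq_of_le_of_finrank_eq ?_ ?_
    · rintro _ ⟨x, hx, rfl⟩
      exact hg x hx
    · exact (Submodule.equivMapOfInjective (Jr F g) (Jr_inj g) U).symm.finrank_eq
  intro x
  refine ⟨fun hx => ?_, hg x⟩
  rw [← h1] at hx
  obtain ⟨y, hy, hxy⟩ := hx
  rw [← Jr_inj g hxy]
  exact hy

theorem FxU_le_StU (U : Submodule F (I27 → F)) : FxU U ≤ StU U := by
  intro g hg
  refine mem_StU_of fun x hx => ?_
  rw [hg x hx]
  exact hx

theorem FxU_normal {U : Submodule F (I27 → F)} {g h : ↥(chevF4.group F)} (hg : g ∈ StU U) (hh : h ∈ FxU U) :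
    g * h * g⁻¹ ∈ FxU U := by
  intro x hx
  have h1 : Jr F g⁻¹ x ∈ U := (inv_mem hg x).2 hx
  rw [Jr_mul, Jr_mul, hh _ h1, Jr_apply_inv]

theorem Hst.le_StU {H : Subgroup ↥(chevF4.group F)} {U : Submodule F (I27 → F)} (hU : Hst H U) : H ≤ StU U :=
  fun h hh => mem_StU_of (hU h hh)

section cfg

variable [Fintype F] {K : Type v} [Field K] [Fintype K] {p a b : ℕ}
variable {H : Subgroup ↥(chevF4.group F)} {φ : ProjectiveSpecialLinearGroup (Fin 2) K →* ↥(chevF4.group F)}

theorem Cfg.mem (h : Cfg p a b H φ) (s : ProjectiveSpecialLinearGroup (Fin 2) K) : φ s ∈ H := h.max.le ⟨s, rfl⟩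

theorem Cfg.simple (h : Cfg p a b H φ) : IsSimpleGroup (ProjectiveSpecialLinearGroup (Fin 2) K) :=
  psl_simple (by have := h.seven; omega)

theorem Cfg.noncomm (h : Cfg p a b H φ) : ∃ s t : ProjectiveSpecialLinearGroup (Fin 2) K, s * t ≠ t * s :=
  psl_noncomm (by have := h.seven; omega)

/-- **stabilizer of a stable subspace** -/
theorem Cfg.StU_eq (h : Cfg p a b H φ) {U : Submodule F (I27 → F)} (hU : Hst H U) (hp : Pr U) : StU U = H := by
  rcases h.max.coatom.le_iff.1 hU.le_StU with h1 | h1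
  · exfalso
    have h2 : ∀ g, ∀ w ∈ U, Jr F g w ∈ U := by
      intro g w hw
      have h3 : g ∈ StU U := by rw [h1]; trivial
      exact (h3 w).2 hw
    rcases Irr.irr h2 with h3 | h3
    · exact hp.1 h3
    · exact hp.2 h3
  · exact h1

/-- **GP** -/
theorem Cfg.gp (h : Cfg p a b H φ) {U : Submodule F (I27 → F)} (hU : Hst H U) (hp : Pr U) {g : ↥(chevF4.group F)}
    (hg : ∀ x ∈ U, Jr F g x ∈ U) : g ∈ H := by
  rw [← h.StU_eq hU hp]
  exact mem_StU_of hg

theorem Cfg.FxU_le (h : Cfg p a b H φ) {U : Submodule F (I27 → F)} (hU : Hst H U) (hp : Pr U) : FxU U ≤ H := by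
  rw [← h.StU_eq hU hp]
  exact FxU_le_StU U

theorem Cfg.FxU_cases (h : Cfg p a b H φ) {U : Submodule F (I27 → F)} (hU : Hst H U) (hp : Pr U) :
    FxU U = ⊥ ∨ φ.range ≤ FxU U := by
  rw [or_iff_not_imp_left]
  intro hne
  refine h.max.min _ (h.FxU_le hU hp) (fun g hg x hx => ?_) hne
  exact FxU_normal (by rw [h.StU_eq hU hp]; exact hg) hx

/-- **KC** -/
theorem Cfg.kc (h : Cfg p a b H φ) {U : Submodule F (I27 → F)} (hU : Hst H U) (hp : Pr U)
    (hact : ∃ s, ∃ x ∈ U, Jr F (φ s) x ≠ x) {g : ↥(chevF4.group F)} (hg : ∀ x ∈ U, Jr F g x = x) : g = 1 := by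
  rcases h.FxU_cases hU hp with h1 | h1
  · have h2 : g ∈ FxU U := hg
    rwa [h1, Subgroup.mem_bot] at h2
  · obtain ⟨s, x, hx, hne⟩ := hact
    exact absurd (h1 ⟨s, rfl⟩ x hx) hne

/-- the simple group is not a `p`-group -/
theorem Cfg.not_pgroup (h : Cfg p a b H φ) : ¬ IsPGroup p (ProjectiveSpecialLinearGroup (Fin 2) K) := by
  intro hP
  have : Fact p.Prime := ⟨h.prime⟩
  have hs := h.simple
  have h1 := hP.center_nontrivial
  obtain ⟨x, hx⟩ := exists_ne (1 : ↥(Subgroup.center (ProjectiveSpecialLinearGroup (Fin 2) K)))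
  have h2 := psl_center (K := K)
  have h3 := h2.le x.2
  exact hx (Subtype.ext (Subgroup.mem_bot.1 h3))

/-- **no nontrivial `p`-subgroup of `H` is normalized by `L`** -/
theorem Cfg.kc_p (h : Cfg p a b H φ) {B : Subgroup ↥(chevF4.group F)} (hB : IsPGroup p ↥B) (hBH : B ≤ H)
    (hn : ∀ s, ∀ x ∈ B, φ s * x * (φ s)⁻¹ ∈ B) : B = ⊥ := by
  have hs := h.simple
  rw [eq_bot_iff]
  intro x hx
  rw [Subgroup.mem_bot]
  refine h.max.cent x fun s => ?_
  have hN : (B.comap φ).Normal := ⟨fun s hs t => by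
    rw [Subgroup.mem_comap, map_mul, map_mul, map_inv]
    exact hn t _ hs⟩
  have hbot : B.comap φ = ⊥ := by
    rcases hN.eq_bot_or_eq_top with h2 | h2
    · exact h2
    · exfalso
      refine h.not_pgroup ?_
      refine hB.of_injective (φ.codRestrict B (fun s => ?_)) ?_
      · have h3 : s ∈ B.comap φ := by rw [h2]; trivial
        exact h3
      · intro s t hst
        exact h.max.inj (congrArg Subtype.val hst)
  obtain ⟨s', hs'⟩ := h.max.norm x (hBH hx) (φ s) ⟨s, rfl⟩
  have h3 : φ (s' * s⁻¹) ∈ B := by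
    rw [map_mul, map_inv, hs']
    have h4 := hn s _ (inv_mem hx)
    have h5 := mul_mem hx h4
    rwa [show x * (φ s * x⁻¹ * (φ s)⁻¹) = x * φ s * x⁻¹ * (φ s)⁻¹ by group] at h5
  have h4 : s' * s⁻¹ ∈ B.comap φ := h3
  rw [hbot, Subgroup.mem_bot, mul_inv_eq_one] at h4
  rw [h4] at hs'
  calc φ s * x = x * φ s * x⁻¹ * x := by rw [← hs']
    _ = x * φ s := by group

/-- **counting** -/
theorem Cfg.count (h : Cfg p a b H φ) {α : Type w} (o : ↥(chevF4.group F) → α) (S : Set α) [Finite S]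
    (hS : ∀ g, o g ∈ S) (hH : ∀ g g', o g = o g' → g⁻¹ * g' ∈ H) : Fintype.card F ^ 33 ≤ 6 * Nat.card S := by
  have h1 := card_le_of_fiber H o S hS hH
  have h2 := card_f4_ge (F := F)
  have h3 := h.card_le'
  rw [Nat.card_eq_fintype_card, h.cardF] at h2
  rw [h.cardF]
  set q := p ^ b
  have hq : 0 < q := Nat.pow_pos h.prime.pos
  have h4 : q ^ 19 * q ^ 33 ≤ q ^ 19 * (6 * Nat.card S) := by
    calc q ^ 19 * q ^ 33 = q ^ 52 := by ring
      _ ≤ 2 * Nat.card ↥(chevF4.group F) := h2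
      _ ≤ 2 * (Nat.card ↥H * Nat.card S) := Nat.mul_le_mul_left _ h1
      _ ≤ 2 * (3 * q ^ 19 * Nat.card S) := Nat.mul_le_mul_left _ (Nat.mul_le_mul_right _ h3)
      _ = q ^ 19 * (6 * Nat.card S) := by ring
  exact Nat.le_of_mul_le_mul_left h4 (Nat.pow_pos hq)

theorem Cfg.two_le (_h : Cfg p a b H φ) : 2 ≤ Fintype.card F := Fintype.one_lt_card

/-- the stabilizer of a vector is not contained in `H` -/
theorem Cfg.vec (h : Cfg p a b H φ) (w : I27 → F) : ∃ g, Jr F g w = w ∧ g ∉ H := by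
  by_contra hcon
  push Not at hcon
  have h1 := h.count (fun g => Jr F g w) Set.univ (fun _ => trivial) (fun g g' hgg => by
    refine hcon _ ?_
    rw [Jr_mul, ← (show Jr F g w = Jr F g' w from hgg), Jr_inv_apply])
  rw [Nat.card_congr (Equiv.Set.univ _), Nat.card_fun, Nat.card_eq_fintype_card (α := F),
    Nat.card_eq_fintype_card (α := I27), show Fintype.card I27 = 27 by decide] at h1
  have hq := h.two_le
  set q := Fintype.card F
  have h8 : q ^ 33 = q ^ 6 * q ^ 27 := by ring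
  rw [h8] at h1
  have h9 : 0 < q ^ 27 := by positivity
  have h10 := Nat.le_of_mul_le_mul_right h1 h9
  have h11 : 2 ^ 6 ≤ q ^ 6 := Nat.pow_le_pow_left hq 6
  norm_num at h11
  omega

/-- **FV**: no stable subspace of dimension 2 contains the unit -/
theorem Cfg.fv (h : Cfg p a b H φ) {P : Submodule F (I27 → F)} (hP : Hst H P) (h0 : u0 F ∈ P)
    (h2 : finrank F ↥P = 2) : False := by
  have hpr : Pr P := pr_of_finrank (by omega) (by omega)
  obtain ⟨w, hw, hwu⟩ := Set.not_subset.1 hpr.1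
  obtain ⟨g, hg, hgH⟩ := h.vec w
  have hli : LinearIndependent F ![u0 F, w] := by
    rw [LinearIndependent.pair_iff]
    intro s t hst
    have ht : t = 0 := by
      by_contra ht
      apply hwu
      refine Submodule.mem_span_singleton.2 ⟨-(t⁻¹ * s), ?_⟩
      have h3 : t • w = -(s • u0 F) := by
        rw [eq_neg_iff_add_eq_zero, add_comm]
        exact hst
      have h4 : w = t⁻¹ • (t • w) := by rw [smul_smul, inv_mul_cancel₀ ht, one_smul]
      rw [h4, h3, smul_neg, smul_smul, neg_smul]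
    rw [ht, zero_smul, add_zero] at hst
    exact ⟨(smul_eq_zero.1 hst).resolve_right u0_ne_zero, ht⟩
  have hsp : Submodule.span F (Set.range ![u0 F, w]) = P := by
    refine Submodule.eq_of_le_of_finrank_eq ?_ ?_
    · rw [Submodule.span_le]
      rintro _ ⟨i, rfl⟩
      fin_cases i
      · exact h0
      · exact hw
    · rw [finrank_span_eq_card hli, h2, Fintype.card_fin]
  apply hgH
  refine h.gp hP hpr fun x hx => ?_
  rw [← hsp] at hx ⊢
  have h3 : Submodule.span F (Set.range ![u0 F, w]) ≤ (Submodule.span F (Set.range ![u0 F, w])).comap (Jr F g) := by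
    rw [Submodule.span_le]
    rintro _ ⟨i, rfl⟩
    show Jr F g _ ∈ Submodule.span F (Set.range ![u0 F, w])
    fin_cases i
    · show Jr F g (u0 F) ∈ _
      rw [Jr_u0]
      exact Submodule.subset_span ⟨0, rfl⟩
    · show Jr F g w ∈ _
      rw [hg]
      exact Submodule.subset_span ⟨1, rfl⟩
  exact h3 hx

/-- **FV**: the only stable line is `F·1` -/
theorem Cfg.fv_line (h : Cfg p a b H φ) {w : I27 → F} (hw : ∀ g ∈ H, ∃ c : F, Jr F g w = c • w) :
    w ∈ Submodule.span F {u0 F} := by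
  by_contra hwu
  have hli : LinearIndependent F ![u0 F, w] := by
    rw [LinearIndependent.pair_iff]
    intro s t hst
    have ht : t = 0 := by
      by_contra ht
      apply hwu
      refine Submodule.mem_span_singleton.2 ⟨-(t⁻¹ * s), ?_⟩
      have h3 : t • w = -(s • u0 F) := by
        rw [eq_neg_iff_add_eq_zero, add_comm]
        exact hst
      have h4 : w = t⁻¹ • (t • w) := by rw [smul_smul, inv_mul_cancel₀ ht, one_smul]
      rw [h4, h3, smul_neg, smul_smul, neg_smul]
    rw [ht, zero_smul, add_zero] at hst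
    exact ⟨(smul_eq_zero.1 hst).resolve_right u0_ne_zero, ht⟩
  refine h.fv (P := Submodule.span F (Set.range ![u0 F, w])) ?_ (Submodule.subset_span ⟨0, rfl⟩)
    (by rw [finrank_span_eq_card hli, Fintype.card_fin])
  intro g hg x hx
  have h3 : Submodule.span F (Set.range ![u0 F, w]) ≤ (Submodule.span F (Set.range ![u0 F, w])).comap (Jr F g) := by
    rw [Submodule.span_le]
    rintro _ ⟨i, rfl⟩
    show Jr F g _ ∈ Submodule.span F (Set.range ![u0 F, w])
    fin_cases i
    · show Jr F g (u0 F) ∈ _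
      rw [Jr_u0]
      exact Submodule.subset_span ⟨0, rfl⟩
    · show Jr F g w ∈ _
      obtain ⟨c, hc⟩ := hw g hg
      rw [hc]
      exact Submodule.smul_mem _ _ (Submodule.subset_span ⟨1, rfl⟩)
  exact h3 hx

end cfg

end Cfsg.Agent.R2.F4M
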