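import Cfsg.Agent.R2.F4M.Eig
import Cfsg.Agent.R2.F4P.Zp

/-!
# S5931: the eigenvectors of `H` (helper21)

* `Ew i H φ w χ` : `w` is a common eigenvector of `H` over `E` with eigenvalues `χ`, fixed by `L`, not a multiple of the unit;
* `Cfg.ew_white` : `w^# = 0` is impossible; `Cfg.ew_N` : `N(w) ≠ 0`;
* `Cfg.ew_two` : `|F| = 2`, `w^# = σ w`, `(σ w)^# = w`, `w × σ w = 1`, `χ ^ 3 = 1`, `χ ^ q = χ ^ 2`.
-/

set_option autoImplicit false
set_option linter.unusedSectionVars false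

namespace Cfsg.Agent.R2.F4M

open Cfsg Cfsg.Lie Module Matrix
open Cfsg.Agent.ChevalleyStructure.E6Min.Basic
open Cfsg.Agent.H952.F4 Cfsg.Agent.H952.F4.Jord
open Cfsg.Agent.H952.F4.FixV (W0 mem_W0 finrank_W0 u0_ne_zero)
open Cfsg.Agent.R2.H9.E6
open Cfsg.Agent.GpExc.Field (emb)

universe u v w

section qd

variable {F E : Type u} [Field F] [Fintype F] [Field E] [Fintype E] {i : F →+* E} {s : E →+* E}

/-- `1, θ` is a basis of `E` over `F` -/
theorem Qd.dec (q : Qd i s) {θ : E} (hθ : s θ ≠ θ) (γ : E) : ∃ c d : F, γ = i c + i d * θ := by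
  have h1 : θ - s θ ≠ 0 := sub_ne_zero.2 (Ne.symm hθ)
  obtain ⟨d, hd⟩ : ∃ d, i d = (γ - s γ) / (θ - s θ) := by
    refine q.fix ?_
    rw [map_div₀, map_sub, map_sub, q.ss, q.ss, ← neg_sub γ, ← neg_sub θ, neg_div_neg_eq]
  obtain ⟨c, hc⟩ : ∃ c, i c = γ - (γ - s γ) / (θ - s θ) * θ := by
    refine q.fix ?_
    rw [map_sub, map_mul, ← hd, q.si, hd]
    field_simp
    ring
  refine ⟨c, d, ?_⟩
  rw [hc, hd]
  ring

theorem ic_zero : ic i (0 : I27 → F) = 0 := funext fun _ => map_zero i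

/-- the rational space of the vectors `β w + β^q σ w` -/
def Uw (q : Qd i s) (w : I27 → E) : Submodule F (I27 → F) where
  carrier := {y | ∃ β : E, ic i y = β • w + s β • sg s w}
  add_mem' := by
    rintro x y ⟨β, hβ⟩ ⟨γ, hγ⟩
    refine ⟨β + γ, ?_⟩
    rw [ic_add, hβ, hγ, map_add]
    module
  zero_mem' := ⟨0, by rw [map_zero, zero_smul, zero_smul, add_zero, ic_zero]⟩
  smul_mem' := by
    rintro c y ⟨β, hβ⟩
    refine ⟨i c * β, ?_⟩
    rw [ic_smul, hβ, map_mul, q.si]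
    module

theorem mem_Uw {q : Qd i s} {w : I27 → E} {y : I27 → F} : y ∈ Uw q w ↔ ∃ β : E, ic i y = β • w + s β • sg s w := Iff.rfl

/-- `Uw` is spanned by two vectors -/
theorem Uw_span (q : Qd i s) (w : I27 → E) {θ : E} (hθ : s θ ≠ θ) {y1 y2 : I27 → F} {α : E} (hα : α ≠ 0)
    (h1 : ic i y1 = α • w + s α • sg s w) (h2 : ic i y2 = (θ * α) • w + s (θ * α) • sg s w) :
    Uw q w ≤ Submodule.span F {y1, y2} := by
  rintro y ⟨β, hβ⟩
  obtain ⟨c, d, hcd⟩ := q.dec hθ (β / α)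
  have h3 : β = i c * α + i d * (θ * α) := by
    field_simp at hcd
    rw [hcd]
    ring
  refine Submodule.mem_span_pair.2 ⟨c, d, ic_inj i ?_⟩
  rw [ic_add, ic_smul, ic_smul, h1, h2, hβ, h3, map_add, map_mul s (i c), map_mul s (i d), q.si, q.si]
  module

theorem Uw_finrank (q : Qd i s) (w : I27 → E) : finrank F ↥(Uw q w) ≤ 2 := by
  classical
  obtain ⟨θ, hθ⟩ := q.exists_ne
  obtain ⟨y1, h1⟩ := q.exists_rat w 1
  obtain ⟨y2, h2⟩ := q.exists_rat w (θ * 1)
  refine (Submodule.finrank_mono (Uw_span q w hθ one_ne_zero h1 h2)).trans ?_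
  have h3 := finrank_span_le_card (R := F) ({y1, y2} : Set (I27 → F))
  have h4 : ({y1, y2} : Set (I27 → F)).toFinset.card ≤ 2 := by
    rw [Set.toFinset_insert, Set.toFinset_singleton]
    exact Finset.card_le_two
  omega

/-- `w` is a combination of the rational vectors -/
theorem Qd.mem_of_rat (q : Qd i s) {w : I27 → E} {X : Submodule E (I27 → E)}
    (h : ∀ α : E, α • w + s α • sg s w ∈ X) : w ∈ X := by
  obtain ⟨α, hα⟩ := q.exists_ne
  have h3 : s α - α ≠ 0 := sub_ne_zero.2 hα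
  have h1 := h 1
  have h2 := h α
  rw [one_smul, map_one, one_smul] at h1
  have h4 : (s α - α) • w ∈ X := by
    have h5 : (s α - α) • w = s α • (w + sg s w) - (α • w + s α • sg s w) := by module
    rw [h5]
    exact X.sub_mem (X.smul_mem _ h1) h2
  exact (X.smul_mem_iff h3).1 h4

theorem Uw_pr (q : Qd i s) {w : I27 → E} (hw : w ∉ Submodule.span E {u0 E}) : Pr (Uw q w) := by
  refine ⟨fun h => hw ?_, fun h => ?_⟩
  · refine q.mem_of_rat fun α => ?_
    obtain ⟨y, hy⟩ := q.exists_rat w α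
    obtain ⟨c, hc⟩ := Submodule.mem_span_singleton.1 (h ⟨α, hy⟩)
    rw [← hy, ← hc, ic_smul, ic_u0]
    exact Submodule.smul_mem _ _ (Submodule.mem_span_singleton_self _)
  · have h1 := Submodule.finrank_mono h
    have h2 := Uw_finrank q w
    rw [finrank_W0] at h1
    omega

variable {K : Type v} [Field K] [Fintype K] {p a b : ℕ}
variable {H : Subgroup ↥(chevF4.group F)} {φ : ProjectiveSpecialLinearGroup (Fin 2) K →* ↥(chevF4.group F)}

/-- common eigenvectors -/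
structure Ew (i : F →+* E) (H : Subgroup ↥(chevF4.group F))
    (φ : ProjectiveSpecialLinearGroup (Fin 2) K →* ↥(chevF4.group F)) (w : I27 → E) (χ : ↥(chevF4.group F) → E) :
    Prop where
  nu : w ∉ Submodule.span E {u0 E}
  ev : ∀ g ∈ H, TE i g w = χ g • w
  fx : ∀ t, TE i (φ t) w = w

variable {w : I27 → E} {χ : ↥(chevF4.group F) → E}

theorem Ew.ne (e : Ew i H φ w χ) : w ≠ 0 := fun h => e.nu (by rw [h]; exact Submodule.zero_mem _)

/-- eigenvectors with eigenvalues in `F` -/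
theorem Cfg.eigS (h : Cfg p a b H φ) (q : Qd i s) {x : I27 → E}
    (hx : ∀ g ∈ H, ∃ c : E, s c = c ∧ TE i g x = c • x) : x ∈ Submodule.span E {u0 E} := by
  refine h.eigF q fun g hg => ?_
  obtain ⟨c, hc, h1⟩ := hx g hg
  obtain ⟨d, rfl⟩ := q.fix hc
  exact ⟨d, 0, by rw [h1, zero_smul, add_zero]⟩

theorem Cfg.ew_ne (h : Cfg p a b H φ) (q : Qd i s) (e : Ew i H φ w χ) : ∃ g0 ∈ H, s (χ g0) ≠ χ g0 := by
  by_contra hcon
  push Not at hcon
  exact e.nu (h.eigS q fun g hg => ⟨χ g, hcon g hg, e.ev g hg⟩)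

theorem Ew.ev' (e : Ew i H φ w χ) (q : Qd i s) {g : ↥(chevF4.group F)} (hg : g ∈ H) :
    TE i g (sg s w) = s (χ g) • sg s w := by
  rw [← q.sg_T, e.ev g hg, sg_smul]

theorem Ew.hst (e : Ew i H φ w χ) (q : Qd i s) : Hst H (Uw q w) := by
  rintro g hg y ⟨β, hβ⟩
  refine ⟨β * χ g, ?_⟩
  rw [← TE_ic, hβ, map_add, map_smul, map_smul, e.ev g hg, e.ev' q hg, map_mul]
  module

theorem Ew.fxU (e : Ew i H φ w χ) (q : Qd i s) (t : ProjectiveSpecialLinearGroup (Fin 2) K) : φ t ∈ FxU (Uw q w) := by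
  rintro y ⟨β, hβ⟩
  apply ic_inj i
  rw [← TE_ic, hβ, map_add, map_smul, map_smul, e.fx, ← q.sg_T, e.fx]

/-- the trace of an eigenvector -/
theorem Cfg.ew_tr (h : Cfg p a b H φ) (q : Qd i s) (e : Ew i H φ w χ) : tr1 w = 0 := by
  obtain ⟨g0, hg0, hne⟩ := h.ew_ne q e
  have h1 := TE_tr i g0 w
  rw [e.ev g0 hg0, tr1_smul] at h1
  have h2 : (1 - χ g0) * tr1 w = 0 := by linear_combination -h1
  refine (mul_eq_zero.1 h2).resolve_left fun h3 => hne ?_
  rw [← sub_eq_zero.1 h3, map_one]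

theorem smul_u0_eq {c : E} (h : c • u0 E = 0) : c = 0 := (smul_eq_zero.1 h).resolve_right u0_ne_zero

/-- **no white eigenvectors** -/
theorem Cfg.ew_white (h : Cfg p a b H φ) (q : Qd i s) (e : Ew i H φ w χ) (hw : sh w = 0) : False := by
  have hp : Fact p.Prime := ⟨h.prime⟩
  have := h.charF
  have htr := h.ew_tr q e
  have hsw : sh (sg s w) = 0 := by
    rw [sg_sh, hw]
    exact funext fun _ => map_zero s
  -- the product
  have hcr : cr w (sg s w) = 0 := by
    have h1 : cr w (sg s w) ∈ Submodule.span E {u0 E} := by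
      refine h.eigS q fun g hg => ⟨χ g * s (χ g), by rw [map_mul, q.ss, mul_comm], ?_⟩
      rw [← TE_cr, e.ev g hg, e.ev' q hg, cr_smul_left, cr_smul_right, smul_smul]
    obtain ⟨c, hc⟩ := Submodule.mem_span_singleton.1 h1
    have h2 := sh_cr w (sg s w)
    rw [← hc, hw, hsw, sh_smul, sh_u0] at h2
    have e1 : cr (0 : I27 → E) 0 = 0 := by
      have := cr_smul_left (0 : E) (0 : I27 → E) 0
      rwa [zero_smul, zero_smul] at this
    have e2 : tf (0 : I27 → E) (sg s w) = 0 := by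
      have := tf_smul_left (0 : E) (0 : I27 → E) (sg s w)
      rwa [zero_smul, zero_mul] at this
    have e3 : tf w (0 : I27 → E) = 0 := by
      rw [tf_comm]
      have := tf_smul_left (0 : E) (0 : I27 → E) w
      rwa [zero_smul, zero_mul] at this
    rw [e1, e2, e3, zero_smul, zero_smul, add_zero, add_zero] at h2
    have h3 := smul_u0_eq h2
    rw [← hc, pow_eq_zero_iff (two_ne_zero) |>.1 h3, zero_smul]
  have hsh : ∀ {y : I27 → F} {α : E}, ic i y = α • w + s α • sg s w → sh y = 0 := by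
    intro y α hy
    apply ic_inj i
    have h1 : ic i (sh y) = sh (ic i y) := (H163.E6.Act.sh_map i y).symm
    rw [h1, hy, sh_add, sh_smul, sh_smul, hw, hsw, cr_smul_left, cr_smul_right, hcr, ic_zero]
    simp
  have htr' : ∀ {y : I27 → F} {α : E}, ic i y = α • w + s α • sg s w → tr1 y = 0 := by
    intro y α hy
    apply i.injective
    rw [← F4P.tr1_map i y, map_zero]
    have h1 : tr1 (ic i y) = 0 := by
      rw [hy, tr1_add, tr1_smul, tr1_smul, sg_tr, htr, map_zero, mul_zero, mul_zero, add_zero]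
    exact h1
  -- a basis of the rational space
  obtain ⟨θ, hθ⟩ := q.exists_ne
  obtain ⟨α, hα, x, hx, hx0⟩ : ∃ α : E, α ≠ 0 ∧ ∃ x : I27 → F, ic i x = α • w + s α • sg s w ∧ x ≠ 0 := by
    by_contra hcon
    push Not at hcon
    apply e.ne
    have h1 : w ∈ (⊥ : Submodule E (I27 → E)) := by
      refine q.mem_of_rat fun α => ?_
      by_cases hα : α = 0
      · rw [hα, map_zero, zero_smul, zero_smul, add_zero]
        exact Submodule.zero_mem _
      · obtain ⟨y, hy⟩ := q.exists_rat w α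
        rw [← hy, hcon α hα y hy, ic_zero]
        exact Submodule.zero_mem _
    exact (Submodule.mem_bot _).1 h1
  obtain ⟨y, hy⟩ := q.exists_rat w (θ * α)
  have hxy : cr x y = 0 := by
    have h1 : ∃ α : E, ic i (x + y) = α • w + s α • sg s w := (Uw q w).add_mem ⟨_, hx⟩ ⟨_, hy⟩
    obtain ⟨β, hβ⟩ := h1
    have h2 := sh_add x y
    rw [hsh hβ, hsh hx, hsh hy, add_zero, zero_add] at h2
    exact h2.symm
  have hU := e.hst q
  have hPr := Uw_pr q e.nu
  obtain ⟨B, hB, hBn, hBf⟩ := F4P.zp p x hx0 (hsh hx) (htr' hx)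
  obtain ⟨z, hz, hz1, hzx, hzy⟩ := hBf y (hsh hy) (htr' hy) hxy
  have hzU : z ∈ FxU (Uw q w) := by
    intro v hv
    obtain ⟨c, d, rfl⟩ := Submodule.mem_span_pair.1 (Uw_span q w hθ hα hx hy hv)
    rw [map_add, map_smul, map_smul, hzx, hzy]
  have hbot : B ⊓ FxU (Uw q w) = ⊥ := by
    refine h.kc_p (B := B ⊓ FxU (Uw q w)) (hB.to_le inf_le_left) (inf_le_right.trans (h.FxU_le hU hPr)) ?_
    intro t v hv
    have h1 := e.fxU q t
    refine ⟨hBn _ (h1 x ⟨_, hx⟩) v hv.1, ?_⟩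
    exact (FxU (Uw q w)).mul_mem ((FxU (Uw q w)).mul_mem h1 hv.2) ((FxU (Uw q w)).inv_mem h1)
  have h2 : z ∈ B ⊓ FxU (Uw q w) := ⟨hz, hzU⟩
  rw [hbot, Subgroup.mem_bot] at h2
  exact hz1 h2

/-- **`N(w) ≠ 0`** -/
theorem Cfg.ew_N (h : Cfg p a b H φ) (q : Qd i s) (e : Ew i H φ w χ) : cubicT w ≠ 0 := by
  intro hN
  by_cases hw : sh w = 0
  · exact h.ew_white q e hw
  · have hss : sh (sh w) = 0 := by rw [sh_sh, hN, zero_smul]
    refine h.ew_white q (w := sh w) (χ := fun g => χ g ^ 2) ⟨?_, ?_, ?_⟩ hss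
    · intro hmem
      obtain ⟨c, hc⟩ := Submodule.mem_span_singleton.1 hmem
      rw [← hc, sh_smul, sh_u0] at hss
      apply hw
      rw [← hc, pow_eq_zero_iff (two_ne_zero) |>.1 (smul_u0_eq hss), zero_smul]
    · intro g hg
      rw [← TE_sh, e.ev g hg, sh_smul]
    · intro t
      rw [← TE_sh, e.fx]

/-- the eigenvalues are cube roots of unity -/
theorem Cfg.ew_cube (h : Cfg p a b H φ) (q : Qd i s) (e : Ew i H φ w χ) {g : ↥(chevF4.group F)} (hg : g ∈ H) :
    χ g ^ 3 = 1 := by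
  have h1 := TE_N i g w
  rw [e.ev g hg, N_smul] at h1
  have h2 := h.ew_N q e
  exact mul_right_cancel₀ h2 (by rw [h1, one_mul])

/-- cube roots of unity -/
theorem cube_cases {z y : E} (hz : z ^ 3 = 1) (hz1 : z ≠ 1) (hy : y ^ 3 = 1) : y = 1 ∨ y = z ∨ y = z ^ 2 := by
  have h1 : z ^ 2 + z + 1 = 0 := by
    have h2 : (z - 1) * (z ^ 2 + z + 1) = 0 := by linear_combination hz
    exact (mul_eq_zero.1 h2).resolve_left (sub_ne_zero.2 hz1)
  have h2 : (y - 1) * ((y - z) * (y - z ^ 2)) = 0 := by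
    linear_combination hy + (-(y ^ 2) + y) * h1 + (y - 1) * hz
  rcases mul_eq_zero.1 h2 with h3 | h3
  · exact Or.inl (sub_eq_zero.1 h3)
  · rcases mul_eq_zero.1 h3 with h4 | h4
    · exact Or.inr (Or.inl (sub_eq_zero.1 h4))
    · exact Or.inr (Or.inr (sub_eq_zero.1 h4))

theorem Cfg.ew_frob (h : Cfg p a b H φ) (q : Qd i s) (e : Ew i H φ w χ) :
    (∃ g0 ∈ H, χ g0 ≠ 1) ∧ ∀ g ∈ H, s (χ g) = χ g ^ 2 := by
  obtain ⟨g0, hg0, hne⟩ := h.ew_ne q e
  have hz1 : χ g0 ≠ 1 := fun h1 => hne (by rw [h1, map_one])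
  have hz := h.ew_cube q e hg0
  have hs0 : s (χ g0) = χ g0 ^ 2 := by
    rcases cube_cases hz hz1 (y := s (χ g0)) (by rw [← map_pow, hz, map_one]) with h1 | h1 | h1
    · exact absurd (s.injective (h1.trans (map_one s).symm)) hz1
    · exact absurd h1 hne
    · exact h1
  refine ⟨⟨g0, hg0, hz1⟩, fun g hg => ?_⟩
  rcases cube_cases hz hz1 (h.ew_cube q e hg) with h1 | h1 | h1
  · rw [h1, map_one, one_pow]
  · rw [h1, hs0]
  · rw [h1, map_pow, hs0]

/-- **the products** -/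
theorem Cfg.ew_prod (h : Cfg p a b H φ) (q : Qd i s) (e : Ew i H φ w χ) :
    ∃ γ c : E, γ ≠ 0 ∧ sh w = γ • sg s w ∧ cr w (sg s w) = c • u0 E ∧ cubicT w = -(c * γ) ∧ tr1 w = 0 := by
  obtain ⟨⟨g0, hg0, hz1⟩, hfr⟩ := h.ew_frob q e
  have hz := h.ew_cube q e hg0
  have htr := h.ew_tr q e
  have hN := h.ew_N q e
  have hu0 : sg s w ≠ 0 := by
    intro h0
    apply e.ne
    rw [← q.sg_sg w, h0]
    exact funext fun _ => map_zero s
  have h1 : cr w (sg s w) ∈ Submodule.span E {u0 E} := by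
    refine h.eigS q fun g hg => ⟨1, map_one s, ?_⟩
    rw [← TE_cr, e.ev g hg, e.ev' q hg, cr_smul_left, cr_smul_right, smul_smul, hfr g hg, one_smul,
      ← pow_succ', h.ew_cube q e hg, one_smul]
  obtain ⟨c, hc⟩ := Submodule.mem_span_singleton.1 h1
  have htrs : tr1 (sh w) = 0 := by
    have h2 := TE_tr i g0 (sh w)
    rw [← TE_sh, e.ev g0 hg0, sh_smul, tr1_smul] at h2
    have h3 : (1 - χ g0 ^ 2) * tr1 (sh w) = 0 := by linear_combination -h2
    refine (mul_eq_zero.1 h3).resolve_left fun h4 => hz1 ?_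
    have h5 : χ g0 ^ 3 = χ g0 := by
      rw [pow_succ, ← sub_eq_zero.1 h4, one_mul]
    rw [← h5, hz]
  have htf : tf (sh w) (sg s w) = 0 := by
    have h2 := TE_tf i g0 (sh w) (sg s w)
    rw [← TE_sh, e.ev g0 hg0, e.ev' q hg0, sh_smul, tf_smul_left, tf_smul_right, hfr g0 hg0] at h2
    have h3 : (1 - χ g0) * tf (sh w) (sg s w) = 0 := by
      linear_combination -h2 + (χ g0 * tf (sh w) (sg s w)) * hz
    refine (mul_eq_zero.1 h3).resolve_left fun h4 => hz1 (sub_eq_zero.1 h4).symm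
  have h2 := cr_sh_cr w (sg s w)
  rw [← hc, htf, zero_smul, add_zero, cr_smul_right, cr_comm, cr_u0, htrs, zero_smul, zero_sub] at h2
  have hc0 : c ≠ 0 := by
    rintro rfl
    rw [zero_smul] at h2
    exact (smul_ne_zero hN hu0) h2.symm
  refine ⟨-(cubicT w / c), c, neg_ne_zero.2 (div_ne_zero hN hc0), ?_, hc.symm, by field_simp, htr⟩
  have h3 : sh w = -(c⁻¹ • (c • -sh w)) := by
    rw [smul_smul, inv_mul_cancel₀ hc0, one_smul, neg_neg]
  rw [h3, h2, smul_smul, ← neg_smul]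
  congr 1
  field_simp

/-- the stabilizer of a rational vector which generates the algebra -/
theorem Cfg.ew_gen (h : Cfg p a b H φ) (q : Qd i s) (e : Ew i H φ w χ) {γ c : E} (hγ : sh w = γ • sg s w)
    (hc : cr w (sg s w) = c • u0 E) (α : E) : s (α ^ 3 * γ) = α ^ 3 * γ := by
  by_contra hne
  obtain ⟨y, hy⟩ := q.exists_rat w α
  obtain ⟨g, hg, hgH⟩ := h.vec y
  apply hgH
  refine h.FxU_le (e.hst q) (Uw_pr q e.nu) ?_
  let P : Submodule E (I27 → E) := LinearMap.ker (TE i g - LinearMap.id)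
  have hP : ∀ x, x ∈ P ↔ TE i g x = x := fun x => by
    rw [LinearMap.mem_ker, LinearMap.sub_apply, LinearMap.id_apply, sub_eq_zero]
  have h1 : TE i g (ic i y) = ic i y := by rw [TE_ic, hg]
  have m1 : ic i y ∈ P := (hP _).2 h1
  have m2 : sh (ic i y) ∈ P := (hP _).2 (by rw [← TE_sh, h1])
  have m3 : u0 E ∈ P := (hP _).2 (TE_u0 i g)
  have hsh : sh (ic i y) = (α ^ 2 * γ) • sg s w + (s α ^ 2 * s γ) • w + (α * s α * c) • u0 E := by
    rw [hy, sh_add, sh_smul, sh_smul, sg_sh, hγ, sg_smul, q.sg_sg, cr_smul_left, cr_smul_right, hc]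
    module
  have hw : (α ^ 3 * γ - s (α ^ 3 * γ)) • w =
      (α ^ 2 * γ) • ic i y - s α • (sh (ic i y) - (α * s α * c) • u0 E) := by
    rw [hsh, hy, map_mul, map_pow]
    module
  have hwP : w ∈ P := by
    refine (P.smul_mem_iff (sub_ne_zero.2 (Ne.symm hne))).1 ?_
    rw [hw]
    exact P.sub_mem (P.smul_mem _ m1) (P.smul_mem _ (P.sub_mem m2 (P.smul_mem _ m3)))
  have hw1 := (hP w).1 hwP
  rintro v ⟨β, hβ⟩
  apply ic_inj i
  rw [← TE_ic, hβ, map_add, map_smul, map_smul, hw1, ← q.sg_T, hw1]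

/-- **reduction to `|F| = 2`** -/
theorem Cfg.ew_two (h : Cfg p a b H φ) (q : Qd i s) (e : Ew i H φ w χ) :
    Fintype.card F = 2 ∧ sh w = sg s w ∧ cr w (sg s w) = -u0 E ∧ tr1 w = 0 := by
  obtain ⟨γ, c, hγ0, hγ, hc, hN, htr⟩ := h.ew_prod q e
  have key := h.ew_gen q e hγ hc
  have hγs : s γ = γ := by
    have := key 1
    rwa [one_pow, one_mul] at this
  have h2 := h.two_le
  have h1 : ∀ x : Eˣ, x ^ (3 * (Fintype.card F - 1)) = 1 := by
    intro x
    apply Units.ext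
    rw [Units.val_pow_eq_pow_val, Units.val_one]
    have h3 := key x
    rw [map_mul, hγs, map_pow, q.frob] at h3
    have h4 := mul_right_cancel₀ hγ0 h3
    have h5 : (x : E) ^ 3 ≠ 0 := pow_ne_zero _ x.ne_zero
    refine mul_right_cancel₀ h5 ?_
    rw [one_mul, ← pow_add, ← h4, ← pow_mul]
    congr 1
    omega
  rw [FiniteField.forall_pow_eq_one_iff] at h1
  have h4 : Fintype.card E - 1 ≤ 3 * (Fintype.card F - 1) := Nat.le_of_dvd (by omega) h1
  rw [q.card] at h4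
  have hq : Fintype.card F = 2 := by
    set n := Fintype.card F
    have h5 : n ^ 2 ≤ 3 * n - 2 := by omega
    have h6 : n < 3 := by
      by_contra h7
      push Not at h7
      have : n * 3 ≤ n ^ 2 := by nlinarith
      omega
    omega
  have hγ1 : γ = 1 := by
    obtain ⟨d, rfl⟩ := q.fix hγs
    have hd : d ≠ 0 := fun h0 => hγ0 (by rw [h0, map_zero])
    have h5 := FiniteField.pow_card_sub_one_eq_one d hd
    rw [hq] at h5
    have h6 : d = 1 := by simpa using h5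
    rw [h6, map_one]
  rw [hγ1, one_smul] at hγ
  refine ⟨hq, hγ, ?_, htr⟩
  have h5 := sh_sh w
  rw [hγ, sg_sh, hγ, q.sg_sg, hN, hγ1, mul_one] at h5
  have h6 : (1 + c) • w = 0 := by
    rw [add_smul, one_smul]
    conv_lhs => enter [1]; rw [h5]
    module
  have h7 : 1 + c = 0 := (smul_eq_zero.1 h6).resolve_right e.ne
  rw [hc]
  have h8 : c = -1 := by linear_combination h7
  rw [h8, neg_one_smul]

end qd

end Cfsg.Agent.R2.F4M
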