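import Cfsg.Agent.R2.F4M.Frm

/-!
# S5931: there are no eigenvectors of `H` (helper21)

* `frm_of` : three idempotents from `w` and `σ w`; `Frm.of_ic` : descent;
* `Cfg.no_ew` : `Ew` is impossible.
-/

set_option autoImplicit false
set_option linter.unusedSectionVars false

namespace Cfsg.Agent.R2.F4M

open Cfsg Cfsg.Lie Module Matrix
open Cfsg.Agent.ChevalleyStructure.E6Min.Basic
open Cfsg.Agent.H952.F4 Cfsg.Agent.H952.F4.Jord
open Cfsg.Agent.H952.F4.FixV (W0 mem_W0 finrank_W0 u0_ne_zero)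
open Cfsg.Agent.R2.H9.E6
open Cfsg.Agent.GpExc.Field (emb)

universe u v w

section frm

variable {E : Type u} [Field E] [CharP E 2]

/-- the squares of the idempotents -/
theorem frm_sh {x y : I27 → E} {β : E} (hxy : sh x = y) (hyx : sh y = x) (hc : cr x y = -u0 E) (hx : tr1 x = 0)
    (hy : tr1 y = 0) (hβ : β ^ 3 = 1) : sh (u0 E + β • x + β ^ 2 • y) = 0 := by
  simp only [sh_add, sh_smul, sh_u0, hxy, hyx, cr_add_left, cr_smul_left, cr_smul_right, cr_u0, hc, hx, hy]
  match_scalars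
  · linear_combination -hβ
  · ring
  · linear_combination β * hβ

/-- the products of the idempotents -/
theorem frm_cr {x y : I27 → E} {β γ δ : E} (hc : cr x y = -u0 E) (hx : tr1 x = 0)
    (hy : tr1 y = 0) (hs : β + γ + δ = 0) (hp : β * γ * δ = 1) :
    cr (u0 E + β • x + β ^ 2 • y) (u0 E + γ • x + γ ^ 2 • y) = u0 E + δ • x + δ ^ 2 • y := by
  have h2 : (2 : E) = 0 := two_z
  have hxx : cr x x = 0 := by rw [cr_self, h2, zero_smul]
  have hyy : cr y y = 0 := by rw [cr_self, h2, zero_smul]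
  have huu : cr (u0 E) (u0 E) = 0 := by rw [cr_self, h2, zero_smul]
  simp only [cr_add_left, cr_add_right, cr_smul_left, cr_smul_right, cr_comm x (u0 E), cr_comm y (u0 E), cr_comm y x, cr_u0,
    hxx, hyy, huu, hc, hx, hy]
  match_scalars
  · linear_combination (-β * γ) * hs + hp
  · linear_combination -hs
  · linear_combination (-(β + γ + δ)) * hs + (β * γ + γ * δ + β * δ) * h2

/-- the traces of the idempotents -/
theorem frm_tr {x y : I27 → E} {β : E} (hx : tr1 x = 0) (hy : tr1 y = 0) :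
    tr1 (u0 E + β • x + β ^ 2 • y) = 1 := by
  have h2 : (2 : E) = 0 := two_z
  rw [tr1_add, tr1_add, tr1_smul, tr1_smul, hx, hy, tr1_u0]
  linear_combination h2

/-- **the frame** -/
theorem frm_of {x y : I27 → E} {ω : E} (hxy : sh x = y) (hyx : sh y = x) (hc : cr x y = -u0 E) (hx : tr1 x = 0)
    (hy : tr1 y = 0) (hω : ω ^ 2 + ω + 1 = 0) :
    Frm (u0 E + (1 : E) • x + (1 : E) ^ 2 • y) (u0 E + ω • x + ω ^ 2 • y) (u0 E + (ω ^ 2) • x + (ω ^ 2) ^ 2 • y) := by
  have h2 : (2 : E) = 0 := two_z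
  have h3 : ω ^ 3 = 1 := by linear_combination (ω - 1) * hω
  refine ⟨frm_sh hxy hyx hc hx hy (one_pow 3), frm_sh hxy hyx hc hx hy h3,
    frm_sh hxy hyx hc hx hy (by rw [← pow_mul, mul_comm, pow_mul, h3, one_pow]),
    frm_cr hc hx hy ?_ ?_, frm_cr hc hx hy ?_ ?_, frm_cr hc hx hy ?_ ?_, ?_,
    frm_tr hx hy, frm_tr hx hy, frm_tr hx hy⟩
  · linear_combination hω
  · linear_combination h3
  · linear_combination hω
  · linear_combination h3
  · linear_combination hω
  · linear_combination h3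
  · match_scalars
    · linear_combination h2
    · linear_combination hω
    · linear_combination hω + ω * h3

end frm

section ic

variable {F E : Type u} [Field F] [Field E] (i : F →+* E)

theorem ic_z : ic i (0 : I27 → F) = 0 := funext fun _ => map_zero i

theorem ic_sh (x : I27 → F) : sh (ic i x) = ic i (sh x) := H163.E6.Act.sh_map i x

theorem ic_cr (x y : I27 → F) : cr (ic i x) (ic i y) = ic i (cr x y) := by
  unfold cr
  rw [← ic_add, ic_sh, ic_sh, ic_sh]
  funext j
  simp [ic]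

theorem ic_tr (x : I27 → F) : tr1 (ic i x) = i (tr1 x) := F4P.tr1_map i x

/-- descent of frames -/
theorem Frm.of_ic {e1 e2 e3 : I27 → F} (f : Frm (ic i e1) (ic i e2) (ic i e3)) : Frm e1 e2 e3 where
  s1 := ic_inj i (by rw [← ic_sh, f.s1]; exact (ic_z i).symm)
  s2 := ic_inj i (by rw [← ic_sh, f.s2]; exact (ic_z i).symm)
  s3 := ic_inj i (by rw [← ic_sh, f.s3]; exact (ic_z i).symm)
  c12 := ic_inj i (by rw [← ic_cr, f.c12])
  c23 := ic_inj i (by rw [← ic_cr, f.c23])
  c31 := ic_inj i (by rw [← ic_cr, f.c31])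
  su := ic_inj i (by rw [ic_add, ic_add, f.su, ic_u0])
  t1 := i.injective (by rw [← ic_tr, f.t1, map_one])
  t2 := i.injective (by rw [← ic_tr, f.t2, map_one])
  t3 := i.injective (by rw [← ic_tr, f.t3, map_one])

end ic

section cfg

variable {F : Type u} [Field F] [Fintype F] {E : Type u} [Field E] [Fintype E] {i : F →+* E} {s : E →+* E}
variable {K : Type v} [Field K] [Fintype K] {p a b : ℕ}
variable {H : Subgroup ↥(chevF4.group F)} {φ : ProjectiveSpecialLinearGroup (Fin 2) K →* ↥(chevF4.group F)}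
variable {w : I27 → E} {χ : ↥(chevF4.group F) → E}

theorem AA_st {e v : I27 → F} {g : ↥(chevF4.group F)} (hg : Jr F g e = e) (hv : v ∈ AA e) : Jr F g v ∈ AA e := by
  rw [mem_AA] at hv ⊢
  conv_lhs => rw [← hg]
  rw [Jr_cr, hv]

theorem Cfg.b_of_two (h : Cfg p a b H φ) (hF : Fintype.card F = 2) : p = 2 ∧ b = 1 := by
  have h1 := h.cardF
  rw [hF] at h1
  have h2 : p ∣ 2 := by
    rw [h1]
    exact dvd_pow_self p (by have := h.hb; omega)
  have h3 : p = 2 := (Nat.prime_dvd_prime_iff_eq h.prime Nat.prime_two).1 h2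
  refine ⟨h3, ?_⟩
  rw [h3] at h1
  have h4 : 2 ^ b = 2 ^ 1 := by rw [← h1, pow_one]
  exact Nat.pow_right_injective le_rfl h4

/-- **there are no eigenvectors** -/
theorem Cfg.no_ew (h : Cfg p a b H φ) (q : Qd i s) (e : Ew i H φ w χ) : False := by
  obtain ⟨hF2, hsw, hcw, htw⟩ := h.ew_two q e
  obtain ⟨hp2, hb1⟩ := h.b_of_two hF2
  have hcF : CharP F 2 := by
    have := h.charF
    rwa [hp2] at this
  have hcE : CharP E 2 := charP_of_injective_ringHom i.injective 2
  have h2E : (2 : E) = 0 := two_z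
  obtain ⟨⟨g0, hg0, hz1⟩, hfr⟩ := h.ew_frob q e
  have hz3 := h.ew_cube q e hg0
  obtain ⟨ω, hω⟩ : ∃ ω, ω = χ g0 := ⟨_, rfl⟩
  have hs0 := hfr g0 hg0
  rw [← hω] at hz1 hz3 hs0
  have hω0 : ω ^ 2 + ω + 1 = 0 := by
    have h2 : (ω - 1) * (ω ^ 2 + ω + 1) = 0 := by linear_combination hz3
    exact (mul_eq_zero.1 h2).resolve_left (sub_ne_zero.2 hz1)
  have hθ : s ω ≠ ω := by
    rw [hs0]
    intro h1
    apply hz1
    have h2 : ω * ω = ω * 1 := by linear_combination h1
    have h3 : ω ≠ 0 := by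
      rintro rfl
      norm_num at hz3
    exact mul_left_cancel₀ h3 h2
  -- the frame
  set v := sg s w with hv
  have hvw : sh v = w := by rw [hv, sg_sh, hsw]; exact q.sg_sg w
  have htv : tr1 v = 0 := by rw [hv, sg_tr, htw, map_zero]
  obtain ⟨y1, h1⟩ := q.exists_rat w 1
  obtain ⟨y2, h2⟩ := q.exists_rat w (ω * 1)
  obtain ⟨y3, h3⟩ := q.exists_rat w (ω ^ 2)
  have k1 : ic i (u0 F + y1) = u0 E + (1 : E) • w + (1 : E) ^ 2 • v := by
    rw [ic_add, ic_u0, h1, map_one, one_pow, add_assoc]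
  have k2 : ic i (u0 F + y2) = u0 E + ω • w + ω ^ 2 • v := by
    rw [ic_add, ic_u0, h2, mul_one, hs0, add_assoc]
  have k3 : ic i (u0 F + y3) = u0 E + (ω ^ 2) • w + (ω ^ 2) ^ 2 • v := by
    rw [ic_add, ic_u0, h3, map_pow, hs0, add_assoc]
  have hFrm : Frm (u0 F + y1) (u0 F + y2) (u0 F + y3) := by
    refine Frm.of_ic i ?_
    rw [k1, k2, k3]
    exact frm_of hsw hvw hcw htw htv hω0
  set e1 := u0 F + y1 with he1
  set e2 := u0 F + y2 with he2
  set e3 := u0 F + y3 with he3
  -- `g0` rotates the frame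
  have hgw : TE i g0 w = ω • w := by rw [e.ev g0 hg0, hω]
  have hgv : TE i g0 v = ω ^ 2 • v := by rw [hv, e.ev' q hg0, ← hω, hs0]
  have r1 : Jr F g0 e1 = e2 := by
    apply ic_inj i
    rw [← TE_ic, k1, k2, map_add, map_add, map_smul, map_smul, hgw, hgv, TE_u0]
    module
  have r2 : Jr F g0 e2 = e3 := by
    apply ic_inj i
    rw [← TE_ic, k2, k3, map_add, map_add, map_smul, map_smul, hgw, hgv, TE_u0]
    module
  have m1 : finrank F ↥(AA e2) = finrank F ↥(AA e1) := by rw [← r1, AA_finrank]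
  have m2 : finrank F ↥(AA e3) = finrank F ↥(AA e2) := by rw [← r2, AA_finrank]
  have hle := hFrm.le
  -- stabilizers
  have hH : ∀ g, Jr F g e1 = e1 → Jr F g e2 = e2 → g ∈ H := by
    intro g hg1 hg2
    refine h.FxU_le (e.hst q) (Uw_pr q e.nu) ?_
    intro y hy
    obtain ⟨c, d, rfl⟩ := Submodule.mem_span_pair.1 (Uw_span q w hθ one_ne_zero h1 h2 hy)
    have j1 : Jr F g y1 = y1 := by
      rw [he1, map_add, Jr_u0] at hg1
      exact add_left_cancel hg1
    have j2 : Jr F g y2 = y2 := by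
      rw [he2, map_add, Jr_u0] at hg2
      exact add_left_cancel hg2
    rw [map_add, map_smul, map_smul, j1, j2]
  -- `3 ∣ a`
  have h3a : 3 ∣ a := by
    obtain ⟨t, ht⟩ := h.pow_a hp2 hg0
    have hn : ∀ n : ℕ, TE i (g0 ^ n) w = ω ^ n • w := by
      intro n
      induction n with
      | zero => rw [pow_zero, pow_zero, TE_one, one_smul]
      | succ n ih => rw [pow_succ', TE_mul, ih, map_smul, hgw, smul_smul, ← pow_succ]
    have h4 := hn a
    rw [ht, e.fx] at h4
    have h5 : (ω ^ a - 1) • w = 0 := by rw [sub_smul, one_smul, ← h4, sub_self]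
    have h6 : ω ^ a = 1 := sub_eq_zero.1 ((smul_eq_zero.1 h5).resolve_right e.ne)
    have h7 : orderOf ω = 3 := orderOf_eq_prime hz3 hz1
    rw [← h7]
    exact orderOf_dvd_of_pow_eq_one h6
  have ha36 : a = 3 ∨ a = 6 := by
    rcases h.bound with h4 | ⟨-, h4⟩ | ⟨d, hd, h4⟩
    · omega
    · exact Or.inl h4
    · rw [hb1, one_mul] at h4
      have ha := h.ha
      have hle : 2 * a ≤ 12 := by
        have : 2 * a ≤ d := Nat.le_of_dvd (by fin_cases hd <;> norm_num) h4
        fin_cases hd <;> omega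
      omega
  rcases ha36 with ha | ha
  · have c1 := hFrm.card_le H hH
    have c2 := h.card_le
    have c3 := card_f4_ge (F := F)
    rw [Nat.card_eq_fintype_card (α := F), hF2] at c3
    rw [hF2] at c1
    rw [hp2, ha] at c2
    have c4 : 2 ^ (27 + finrank F ↥(AA e1)) ≤ 2 ^ 36 := Nat.pow_le_pow_right (by norm_num) (by omega)
    have c5 : Nat.card ↥H * 2 ^ (27 + finrank F ↥(AA e1)) ≤ 1536 * 2 ^ 36 := by
      refine Nat.mul_le_mul (c2.trans (by norm_num)) c4
    have c6 := c1.trans c5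
    norm_num at c3 c6
    omega
  · -- an element of order 13
    have h13 : (13 : ℕ) ∣ Nat.card (ProjectiveSpecialLinearGroup (Fin 2) K) := by
      refine prime_dvd_psl (q0 := 64) ?_ (by norm_num) (by norm_num) (by norm_num)
      rw [h.cardK, hp2, ha]
      norm_num
    have hp13 : Fact (Nat.Prime 13) := ⟨by norm_num⟩
    obtain ⟨t, ht⟩ := exists_prime_orderOf_dvd_card' 13 h13
    have ho : orderOf (φ t) = 13 := by
      rw [← ht]
      exact orderOf_injective φ h.max.inj t
    have hfw : TE i (φ t) w = w := e.fx t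
    have hfv : TE i (φ t) v = v := by rw [hv, ← q.sg_T, hfw]
    have f1 : Jr F (φ t) e1 = e1 := by
      apply ic_inj i
      rw [← TE_ic, k1, map_add, map_add, map_smul, map_smul, hfw, hfv, TE_u0]
    have f2 : Jr F (φ t) e2 = e2 := by
      apply ic_inj i
      rw [← TE_ic, k2, map_add, map_add, map_smul, map_smul, hfw, hfv, TE_u0]
    have f3 : Jr F (φ t) e3 = e3 := by
      apply ic_inj i
      rw [← TE_ic, k3, map_add, map_add, map_smul, map_smul, hfw, hfv, TE_u0]
    have hone : φ t = 1 := hFrm.eq_one f1 f2 f3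
      (fix13 hF2 ho (by omega) fun x hx => AA_st f1 hx)
      (fix13 hF2 ho (by omega) fun x hx => AA_st f2 hx)
      (fix13 hF2 ho (by omega) fun x hx => AA_st f3 hx)
    rw [hone, orderOf_one] at ho
    omega

end cfg

end Cfsg.Agent.R2.F4M
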