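import Cfsg.Agent.R2.F4M.NoEw

/-!
# S5931, box NOFIX: `L` fixes only the multiples of the unit (helper21)

* `exists_iota` : `K →+* k`;
* `Cfg.nofix` : over `F`; `Cfg.nofix_k` : over every extension `k` of `F`; `Cfg.nofix_rk` : for `Rk f φ`.
-/

set_option autoImplicit false
set_option linter.unusedSectionVars false

namespace Cfsg.Agent.R2.F4M

open Cfsg Cfsg.Lie Module Matrix
open Cfsg.Agent.ChevalleyStructure.E6Min.Basic
open Cfsg.Agent.H952.F4 Cfsg.Agent.H952.F4.Jord
open Cfsg.Agent.H952.F4.FixV (W0 mem_W0 finrank_W0 u0_ne_zero tr1_sub)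
open Cfsg.Agent.R2.H9.E6
open Cfsg.Agent.GpExc.Field (emb)
open Cfsg.Agent.R2.H28.SL2 Cfsg.Agent.H943.RepAdd Cfsg.Agent.R2.SL2
open Cfsg.Agent.R2.H8.NoFix.Rep (le_count_zero)

universe u v w

/-- an embedding of a finite field into an algebraically closed field -/
theorem exists_iota (p : ℕ) [Fact p.Prime] (K : Type v) [Field K] [Finite K] [CharP K p] (k : Type u) [Field k] [CharP k p]
    [IsAlgClosed k] : Nonempty (K →+* k) := by
  let _ := ZMod.algebra K p
  let _ := ZMod.algebra k p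
  have h1 : Module.Finite (ZMod p) K := Module.Finite.of_finite
  have h2 : Algebra.IsAlgebraic (ZMod p) K := Algebra.IsAlgebraic.of_finite (ZMod p) K
  exact ⟨(IsAlgClosed.lift (R := ZMod p) (S := K) (M := k)).toRingHom⟩

section cfg

variable {F : Type u} [Field F] [Fintype F] {K : Type v} [Field K] [Fintype K] {p a b : ℕ}
variable {H : Subgroup ↥(chevF4.group F)} {φ : ProjectiveSpecialLinearGroup (Fin 2) K →* ↥(chevF4.group F)}

/-- a fixed vector gives a trivial composition factor of `J₀` -/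
theorem Cfg.zero_mem (h : Cfg p a b H φ) {k : Type u} [Field k] [IsAlgClosed k] [DecidableEq k] [DecidableEq K] (f : F →+* k)
    [Fact p.Prime] [CharP k p] [CharP K p] (ι : K →+* k) {x : I27 → F} (hx : ∀ t, Jr F (φ t) x = x)
    (hxu : x ∉ Submodule.span F {u0 F}) : (0 : ℕ) ∈ cf (Sy.{u, u, v} ι p) (R0 f φ) := by
  classical
  obtain ⟨y, hy, hy0⟩ : ∃ y : ↥(W0 k), (∀ g, R0 f φ g y = y) ∧ y ≠ 0 := by
    have hfx : ∀ g, Rk f φ g (ic f x) = ic f x := by
      intro g
      have h1 := Rk_map f φ g x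
      rw [hx] at h1
      exact h1
    by_cases h3 : (3 : k) = 0
    · refine ⟨⟨u0 k, (mem_W0 _).2 (by rw [tr1_u0, h3])⟩, fun g => Subtype.ext ?_, fun h0 => ?_⟩
      · rw [R0_apply, Rk_u0]
      · exact u0_ne_zero (congrArg Subtype.val h0)
    · refine ⟨⟨ic f x - (tr1 (ic f x) / 3) • u0 k, (mem_W0 _).2 ?_⟩, fun g => Subtype.ext ?_, fun h0 => ?_⟩
      · rw [tr1_sub, tr1_smul, tr1_u0]
        field_simp
        ring
      · rw [R0_apply, map_sub, map_smul, hfx, Rk_u0]
      · apply hxu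
        have h1 : ic f x - (tr1 (ic f x) / 3) • u0 k = 0 := congrArg Subtype.val h0
        have h2 : ic f x = (tr1 (ic f x) / 3) • u0 k := sub_eq_zero.1 h1
        have h3F : (3 : F) ≠ 0 := fun h0 => h3 (by rw [← map_ofNat f 3, h0, map_zero])
        refine Submodule.mem_span_singleton.2 ⟨tr1 x / 3, ic_inj f ?_⟩
        rw [h2, ic_tr, ic_smul, ic_u0, map_div₀, map_ofNat]
  have h1 := le_count_zero.{u, u, v} ι p h.cardK (R0 f φ) (X := Submodule.span k {y}) (by
    intro g z hz
    obtain ⟨c, rfl⟩ := Submodule.mem_span_singleton.1 hz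
    rw [map_smul, hy])
  rw [finrank_span_singleton hy0] at h1
  exact Multiset.count_pos.1 (by omega)

/-- **NOFIX over `F`** -/
theorem Cfg.nofix (h : Cfg p a b H φ) {x : I27 → F} (hx : ∀ t, Jr F (φ t) x = x) : x ∈ Submodule.span F {u0 F} := by
  classical
  by_contra hxu
  have hp : Fact p.Prime := ⟨h.prime⟩
  have hcF := h.charF
  have hcK := h.charK
  have hck : CharP (AlgebraicClosure F) p :=
    charP_of_injective_algebraMap (algebraMap F (AlgebraicClosure F)).injective p
  obtain ⟨ι⟩ := exists_iota p K (AlgebraicClosure F)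
  have h0 := h.zero_mem (algebraMap F (AlgebraicClosure F)) ι hx hxu
  obtain ⟨E, _, _, i, s, -, q⟩ := exists_quad F h.cardF
  obtain ⟨w, χ, hw, hev, hfx, -⟩ := h.exists_common q (fun g hg => h.pow_mem _ ι h0 hg) ⟨x, hx, hxu⟩
  exact h.no_ew q ⟨hw, hev, hfx⟩

/-- **NOFIX over an extension field**, general form -/
theorem Cfg.nofix_gen (h : Cfg p a b H φ) {k : Type w} [Field k] (f : F →+* k)
    (A : ProjectiveSpecialLinearGroup (Fin 2) K → (I27 → k) →ₗ[k] (I27 → k))
    (hA : ∀ t (x : I27 → F), A t (fun j => f (x j)) = fun j => f (Jr F (φ t) x j)) {x : I27 → k}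
    (hx : ∀ t, A t x = x) : ∃ c : k, x = c • u0 k := by
  classical
  let _ : Algebra F k := f.toAlgebra
  have key : ∀ ℓ : k →ₗ[F] F, (fun j => ℓ (x j)) ∈ Submodule.span F {u0 F} := by
    intro ℓ
    refine h.nofix fun t => ?_
    funext j
    have h1 := congrFun (hx t) j
    have h4 : x = ∑ l, x l • (fun j => f ((Pi.single l (1 : F) : I27 → F) j)) := by
      funext m
      rw [Finset.sum_apply]
      simp only [Pi.smul_apply, smul_eq_mul]
      rw [Finset.sum_eq_single m]
      · rw [Pi.single_eq_same, map_one, mul_one]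
      · intro l _ hl
        rw [Pi.single_eq_of_ne (Ne.symm hl), map_zero, mul_zero]
      · intro hm
        exact absurd (Finset.mem_univ m) hm
    have h2 : A t x j = ∑ l, f ((rJ F (φ t) : GL I27 F).1 j l) * x l := by
      conv_lhs => rw [h4]
      rw [map_sum, Finset.sum_apply]
      refine Finset.sum_congr rfl fun l _ => ?_
      rw [map_smul, Pi.smul_apply, smul_eq_mul, mul_comm, hA]
      congr 1
      show f (Jr F (φ t) (Pi.single l 1) j) = _
      rw [Jr_apply, Matrix.mulVec_single_one]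
      rfl
    rw [h2] at h1
    rw [Jr_apply, Matrix.mulVec, dotProduct]
    conv_rhs => rw [← h1]
    rw [map_sum]
    refine Finset.sum_congr rfl fun l _ => ?_
    have h6 : f ((rJ F (φ t) : GL I27 F).1 j l) * x l = ((rJ F (φ t) : GL I27 F).1 j l) • x l := rfl
    rw [h6, map_smul, smul_eq_mul]
  refine ⟨x (0, 0, 0), ?_⟩
  funext j
  rw [← sub_eq_zero, ← Module.forall_dual_apply_eq_zero_iff F]
  intro ℓ
  obtain ⟨c, hc⟩ := Submodule.mem_span_singleton.1 (key ℓ)
  have h1 := congrFun hc j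
  have h2 := congrFun hc (0, 0, 0)
  simp only [Pi.smul_apply, smul_eq_mul, u0, and_self, if_true, mul_one] at h1 h2
  simp only [Pi.smul_apply, smul_eq_mul, u0]
  rw [map_sub, ← h1, h2]
  split_ifs
  · rw [mul_one, mul_one, sub_self]
  · rw [mul_zero, mul_zero, map_zero, sub_zero]

/-- **NOFIX** for `Rk` -/
theorem Cfg.nofix_rk (h : Cfg p a b H φ) {k : Type u} [Field k] (f : F →+* k) {x : I27 → k}
    (hx : ∀ g, Rk f φ g x = x) : ∃ c : k, x = c • u0 k := by
  refine h.nofix_gen f (fun t => Jr k (emb hF4 f (φ t))) (fun t x => Jr_map f (φ t) x) fun t => ?_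
  obtain ⟨g, rfl⟩ := pq_surjective t
  exact hx g

end cfg

end Cfsg.Agent.R2.F4M
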