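import Cfsg.Agent.R2.F4M.FixU
import Cfsg.Agent.R2.F4P.Mn7

/-!
# S5931: the case `p = 2` (helper21, helper20)
-/

set_option autoImplicit false

namespace Cfsg.Agent.R2.F4M

open Cfsg Cfsg.Lie

universe u w

/-- **`p = 2` is impossible** -/
theorem p2_false {F : Type u} [Field F] [Fintype F] {K : Type w} [Field K] [Fintype K] {a b : ℕ}
    {H : Subgroup ↥(chevF4.group F)} {φ : Matrix.ProjectiveSpecialLinearGroup (Fin 2) K →* ↥(chevF4.group F)}
    (h : Cfg 2 a b H φ) : False := F4P.p2_fix h (h.fixU _)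

end Cfsg.Agent.R2.F4M
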